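import Cfsg.Agent.Lib.Blackburn23.Powerful
import Cfsg.Agent.Lib.InvChar.OneSubgroup
import Cfsg.Agent.Lib.OddLocal.BlackburnStructure

/-!
# Odd `p`-groups of rank two with a normal subgroup of order `p ^ 3` and exponent `p`
-/

set_option autoImplicit false
set_option linter.style.haveILetI false
set_option linter.unusedSectionVars false
set_option linter.unusedVariables false

namespace Cfsg.Agent.Blackburn23

open Subgroup Cfsg Cfsg.Agent
open scoped commutatorElement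

universe u

variable {G : Type u} [Group G] [Finite G] {p : ℕ} [hp : Fact p.Prime]

/-- In a nilpotent group a normal subgroup is not absorbed by its commutator with the group. -/
theorem not_le_comm_sup [Group.IsNilpotent G] {N M : Subgroup G} [N.Normal] [M.Normal] (h : ¬ N ≤ M) :
    ¬ N ≤ ⁅N, (⊤ : Subgroup G)⁆ ⊔ M := by
  intro hle
  refine h ?_
  suffices hk : ∀ n, N ≤ (⊤ : Subgroup G).lowerCentralSeries n ⊔ M by
    obtain ⟨n, hn⟩ := Subgroup.nilpotent_iff_lowerCentralSeries.mp (inferInstance : Group.IsNilpotent G)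
    simpa [hn] using hk n
  intro n
  induction n with
  | zero => rw [Subgroup.lowerCentralSeries_zero]; simp
  | succ n ih =>
    refine hle.trans (sup_le ((commutator_mono ih le_rfl).trans ?_) le_sup_right)
    refine commutator_le.mpr fun x hx g _ => (QuotientGroup.eq_one_iff _).mp ?_
    set π := QuotientGroup.mk' ((⊤ : Subgroup G).lowerCentralSeries (n + 1) ⊔ M)
    obtain ⟨l, hl, m, hm, rfl⟩ := mem_sup_of_normal_right.mp hx
    show π ⁅l * m, g⁆ = 1
    have e1 : π m = 1 := (QuotientGroup.eq_one_iff m).mpr (mem_sup_right hm)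
    have e2 : π ⁅l, g⁆ = 1 := (QuotientGroup.eq_one_iff _).mpr (mem_sup_left (by
      rw [Subgroup.lowerCentralSeries_succ]; exact commutator_mem_commutator hl (mem_top g)))
    rw [map_commutatorElement] at e2
    rw [map_commutatorElement, map_mul, e1, mul_one, e2]

/-- An element of order `p` commuting with an elementary abelian subgroup of maximal rank lies in it. -/
theorem mem_of_rank (hrk : PRankLE p 2 G) {Y : Subgroup G} (hY : Nat.card Y = p ^ 2)
    (hYc : ∀ a ∈ Y, ∀ b ∈ Y, Commute a b) (hYp : ∀ a ∈ Y, a ^ p = 1) {c : G} (hc : c ^ p = 1)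
    (hcY : ∀ a ∈ Y, Commute a c) : c ∈ Y := by
  set A := closure (insert c (Y : Set G)) with hA
  have hcomm : ∀ a ∈ insert c (Y : Set G), ∀ b ∈ insert c (Y : Set G), a * b = b * a := by
    rintro a (rfl | ha) b (rfl | hb)
    · rfl
    · exact (hcY b hb).symm.eq
    · exact (hcY a ha).eq
    · exact (hYc a ha b hb).eq
  haveI : IsMulCommutative A := isMulCommutative_closure hcomm
  have hexp : ∀ a ∈ A, a ^ p = 1 := by
    intro a ha
    suffices h : a ∈ A ∧ a ^ p = 1 from h.2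
    induction ha using closure_induction with
    | mem x hx => exact ⟨Subgroup.subset_closure hx, by rcases hx with rfl | hx <;> [exact hc; exact hYp x hx]⟩
    | one => exact ⟨one_mem _, one_pow _⟩
    | mul x y _ _ hx hy =>
      refine ⟨mul_mem hx.1 hy.1, ?_⟩
      have : Commute x y := congrArg Subtype.val (mul_comm' (⟨x, hx.1⟩ : A) ⟨y, hy.1⟩)
      rw [this.mul_pow, hx.2, hy.2, one_mul]
    | inv x _ hx => exact ⟨inv_mem hx.1, by rw [inv_pow, hx.2, inv_one]⟩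
  have hYA : Y ≤ A := fun a ha => Subgroup.subset_closure (Set.mem_insert_of_mem _ ha)
  have := eq_of_le_of_card_ge hYA ((hrk A inferInstance hexp).trans hY.ge)
  rw [this]
  exact Subgroup.subset_closure (Set.mem_insert _ _)

theorem card_normal_between (hG : IsPGroup p G) {A B : Subgroup G} {k : ℕ} (hA : Nat.card A = p ^ k) (hAB : A < B)
    {D : Subgroup G} (hBD : B < D) (hD : Nat.card D = p ^ (k + 2)) : Nat.card B = p ^ (k + 1) := by
  obtain ⟨j, hj⟩ := IsPGroup.iff_card.mp (hG.to_subgroup B)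
  have h1 := Basics.card_lt_of_lt hAB
  have h2 := Basics.card_lt_of_lt hBD
  rw [hA, hj, Nat.pow_lt_pow_iff_right hp.out.one_lt] at h1
  rw [hj, hD, Nat.pow_lt_pow_iff_right hp.out.one_lt] at h2
  rw [hj, show j = k + 1 by omega]

/-- Blackburn's two families: a normal subgroup of order `p ^ 3` and exponent `p` in a group of rank two. -/
theorem families (hp2 : p ≠ 2) (hG : IsPGroup p G) {n : ℕ} (hn : Nat.card G = p ^ n) (hrk : PRankLE p 2 G)
    (H : Subgroup G) [H.Normal] (hH : Nat.card H = p ^ 3) (hexp : ∀ x ∈ H, x ^ p = 1) :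
    (3 ≤ n ∧ ∃ x y z : G, closure ({x, y, z} : Set G) = ⊤ ∧ x ^ p = 1 ∧ y ^ p = 1 ∧ z ^ p ^ (n - 2) = 1 ∧
        x * z = z * x ∧ y * z = z * y ∧ x⁻¹ * y * x = y * z ^ p ^ (n - 3)) ∨
    (4 ≤ n ∧ ∃ (s : ℕ) (x y z : G), (s = 1 ∨ ¬ IsSquare (s : ZMod p)) ∧ closure ({x, y, z} : Set G) = ⊤ ∧
        x ^ p = 1 ∧ y ^ p = 1 ∧ z ^ p ^ (n - 2) = 1 ∧ y * z = z * y ∧ x⁻¹ * y * x = y * z ^ (s * p ^ (n - 3)) ∧
        x⁻¹ * z * x = y * z) := by
  classical
  haveI := hG.isNilpotent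
  haveI hCn : (centralizer (H : Set G)).Normal := inferInstance
  set C := centralizer (H : Set G) with hCdef
  set Z := H ⊓ C with hZdef
  haveI hZn : Z.Normal := inferInstance
  have hnab : ¬ ∀ a ∈ H, ∀ b ∈ H, a * b = b * a := by
    intro h
    have h1 := hrk H ⟨⟨fun a b => Subtype.ext (h a a.2 b b.2)⟩⟩ hexp
    rw [hH, Nat.pow_le_pow_iff_right hp.out.one_lt] at h1
    omega
  push_neg at hnab
  obtain ⟨x₀, hx₀, y₀, hy₀, hxy₀⟩ := hnab
  have hZH : Z ≤ H := inf_le_left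
  have hx₀Z : x₀ ∉ Z := fun h => hxy₀ (mem_centralizer_iff.mp h.2 y₀ hy₀).symm
  have hy₀Z : y₀ ∉ Z := fun h => hxy₀ (mem_centralizer_iff.mp h.2 x₀ hx₀)
  have hHp : IsPGroup p H := hG.to_subgroup H
  obtain ⟨kz, hkz⟩ := IsPGroup.iff_card.mp (hG.to_subgroup Z)
  have hkz1 : kz = 1 := by
    have hle : zpowers x₀ ⊔ Z < H := by
      refine lt_of_le_of_ne (sup_le (zpowers_le.mpr hx₀) hZH) fun e => hxy₀ ?_
      have hy : y₀ ∈ zpowers x₀ ⊔ Z := e.symm ▸ hy₀
      obtain ⟨a, ha, b, hb, rfl⟩ := mem_sup_of_normal_right.mp hy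
      obtain ⟨i, rfl⟩ := mem_zpowers_iff.mp ha
      calc x₀ * (x₀ ^ i * b) = x₀ ^ i * (x₀ * b) := by rw [← mul_assoc, ← mul_assoc]; congr 1; exact (Commute.self_zpow x₀ i).eq
        _ = x₀ ^ i * b * x₀ := by rw [mem_centralizer_iff.mp hb.2 x₀ hx₀, mul_assoc]
    have hlt : Z < zpowers x₀ ⊔ Z := lt_of_le_of_ne le_sup_right fun e => hx₀Z (e.symm ▸ mem_sup_left (mem_zpowers _))
    have h1 := Basics.card_lt_of_lt hle
    have h2 := Basics.card_lt_of_lt hlt
    obtain ⟨j, hj⟩ := IsPGroup.iff_card.mp (hG.to_subgroup (zpowers x₀ ⊔ Z))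
    rw [hj, hH, Nat.pow_lt_pow_iff_right hp.out.one_lt] at h1
    rw [hj, hkz, Nat.pow_lt_pow_iff_right hp.out.one_lt] at h2
    have h0 : kz ≠ 0 := by
      intro h0
      rw [h0, pow_zero, card_eq_one] at hkz
      haveI : Nontrivial ↥H := ⟨⟨⟨x₀, hx₀⟩, 1, fun e => hx₀Z (by
        rw [show x₀ = 1 from congrArg Subtype.val e]; exact one_mem _)⟩⟩
      haveI := hHp.center_nontrivial
      obtain ⟨w, hw⟩ := exists_ne (1 : center ↥H)
      have : ((w : ↥H) : G) ∈ Z := ⟨(w : ↥H).2, mem_centralizer_iff.mpr fun a ha =>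
        congrArg Subtype.val (mem_center_iff.mp w.2 ⟨a, ha⟩)⟩
      rw [hkz, mem_bot] at this
      exact hw (Subtype.ext (Subtype.ext this))
    omega
  have hZ : Nat.card Z = p := by rw [hkz, hkz1, pow_one]
  have hZgen : ∀ e ∈ Z, e ≠ 1 → ∀ w ∈ Z, w ∈ zpowers e := by
    intro e he he1 w hw
    have hle : zpowers e ≤ Z := zpowers_le.mpr he
    rw [eq_of_le_of_card_ge hle (by rw [hZ, Nat.card_zpowers, orderOf_eq_prime (hexp e he.1) he1])]
    exact hw
  have hZcomm : ∀ e ∈ Z, ∀ a ∈ H, Commute a e := fun e he a ha => mem_centralizer_iff.mp he.2 a ha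
  have hcommZ : ∀ a ∈ H, ∀ b ∈ H, ⁅a, b⁆ ∈ Z := by
    intro a ha b hb
    set Q : Subgroup G := ⁅H, H⁆
    haveI : Q.Normal := inferInstance
    have h1 : ¬ H ≤ ⁅H, (⊤ : Subgroup G)⁆ ⊔ Z := not_le_comm_sup fun h => hx₀Z (h hx₀)
    by_cases hQ : ⁅a, b⁆ ∈ Z
    · exact hQ
    exfalso
    -- `H / Z` has order `p ^ 2`, hence is abelian
    haveI : (Z.subgroupOf H).Normal := inferInstance
    have hcard : Nat.card (↥H ⧸ Z.subgroupOf H) = p ^ 2 := by
      have := Subgroup.card_eq_card_quotient_mul_card_subgroup (Z.subgroupOf H)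
      rw [hH, Basics.card_subgroupOf hZH, hZ] at this
      exact Nat.eq_of_mul_eq_mul_right hp.out.pos (by rw [← this]; ring)
    have hc := (IsPGroup.commutative_of_card_eq_prime_sq hcard)
      (QuotientGroup.mk' (Z.subgroupOf H) ⟨a, ha⟩) (QuotientGroup.mk' (Z.subgroupOf H) ⟨b, hb⟩)
    rw [← commutatorElement_eq_one_iff_mul_comm, ← map_commutatorElement] at hc
    exact hQ (mem_subgroupOf.mp ((QuotientGroup.eq_one_iff _).mp hc))
  -- an elementary abelian subgroup above `Z`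
  have mkY : ∀ y ∈ H, y ∉ Z → ∀ Y : Subgroup G, Y = zpowers y ⊔ Z →
      Nat.card Y = p ^ 2 ∧ (∀ a ∈ Y, ∀ b ∈ Y, Commute a b) ∧ (∀ a ∈ Y, a ^ p = 1) ∧ Y < H := by
    intro y hy hyZ Y hY
    subst hY
    have hle : zpowers y ⊔ Z ≤ H := sup_le (zpowers_le.mpr hy) hZH
    have hcm : ∀ a ∈ zpowers y ⊔ Z, ∀ b ∈ zpowers y ⊔ Z, Commute a b := by
      intro a ha b hb
      obtain ⟨a₁, ha₁, a₂, ha₂, rfl⟩ := mem_sup_of_normal_right.mp ha
      obtain ⟨b₁, hb₁, b₂, hb₂, rfl⟩ := mem_sup_of_normal_right.mp hb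
      obtain ⟨i, rfl⟩ := mem_zpowers_iff.mp ha₁
      obtain ⟨j, rfl⟩ := mem_zpowers_iff.mp hb₁
      exact ((Commute.zpow_zpow_self y i j).mul_right (hZcomm b₂ hb₂ _ (zpow_mem hy i))).mul_left
        (((hZcomm a₂ ha₂ _ (zpow_mem hy j)).symm).mul_right (hZcomm b₂ hb₂ _ ha₂.1))
    have hlt : zpowers y ⊔ Z < H := lt_of_le_of_ne hle fun e => hxy₀ (hcm x₀ (e.symm ▸ hx₀) y₀ (e.symm ▸ hy₀)).eq
    exact ⟨card_normal_between hG (k := 1) (by rw [pow_one]; exact hZ)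
      (lt_of_le_of_ne le_sup_right fun e => hyZ (e.symm ▸ mem_sup_left (mem_zpowers _))) hlt hH,
      hcm, fun a ha => hexp a (hle ha), hlt⟩
  -- the centralizer of `H` is cyclic
  obtain ⟨hY₁, hY₁c, hY₁p, hY₁H⟩ := mkY x₀ hx₀ hx₀Z _ rfl
  have hCord : ∀ c ∈ C, c ^ p = 1 → c ∈ Z := fun c hc hcp => ⟨hY₁H.le (mem_of_rank hrk hY₁ hY₁c hY₁p hcp
    fun a ha => mem_centralizer_iff.mp hc a (hY₁H.le ha)), hc⟩
  have hCcyc : IsCyclic C := by
    rcases InvChar.cyclic_or_quaternion (hG.to_subgroup C) (fun A B hA hB => by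
      suffices h : ∀ A : Subgroup ↥C, Nat.card A = p → A.map C.subtype = Z by
        exact map_injective C.subtype_injective ((h A hA).trans (h B hB).symm)
      intro A hA
      refine eq_of_le_of_card_ge ?_ (by rw [card_map_of_injective C.subtype_injective, hA, hZ])
      rintro _ ⟨a, ha, rfl⟩
      refine hCord _ a.2 ?_
      have h1 : a ^ p = 1 := orderOf_dvd_iff_pow_eq_one.mp ((Subgroup.orderOf_dvd_natCard A ha).trans (dvd_of_eq hA))
      exact congrArg Subtype.val h1) with h | ⟨h, -⟩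
    · exact h
    · exact absurd h hp2
  obtain ⟨⟨c₀, hc₀⟩, hgen₀⟩ := hCcyc.exists_generator
  have hCz : C = zpowers c₀ := le_antisymm (fun c hc => by
    obtain ⟨i, hi⟩ := mem_zpowers_iff.mp (hgen₀ ⟨c, hc⟩)
    exact mem_zpowers_iff.mpr ⟨i, congrArg Subtype.val hi⟩) (zpowers_le.mpr hc₀)
  obtain ⟨kc, hkc⟩ := IsPGroup.iff_orderOf.mp hG c₀
  obtain ⟨m, rfl⟩ : ∃ m, kc = m + 1 := by
    rcases kc with _ | m
    · exfalso
      have h1 : Z ≤ ⊥ := by
        rw [← zpowers_one_eq_bot, ← orderOf_eq_one_iff.mp (hkc.trans (pow_zero p)), ← hCz]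
        exact inf_le_right
      rw [le_bot_iff.mp h1, card_bot] at hZ
      exact hp.out.ne_one hZ.symm
    · exact ⟨m, rfl⟩
  set w₀ := c₀ ^ p ^ m with hw₀
  have hw₀p : w₀ ^ p = 1 := by rw [hw₀, ← pow_mul, ← pow_succ, ← hkc, pow_orderOf_eq_one]
  have hw₀Z : w₀ ∈ Z := hCord _ (pow_mem hc₀ _) hw₀p
  have hw₀1 : w₀ ≠ 1 := fun e => by
    have h := orderOf_dvd_of_pow_eq_one (hw₀ ▸ e : c₀ ^ p ^ m = 1)
    rw [hkc, Nat.pow_dvd_pow_iff_le_right hp.out.one_lt] at h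
    omega
  -- centralizing `H / Z` means lying in `H C`
  have hinner : ∀ x y : G, x ∈ H → y ∈ H → ¬ Commute x y → ∀ g : G, ⁅g, x⁆ ∈ Z → ⁅g, y⁆ ∈ Z →
      ∃ h ∈ closure ({x, y} : Set G), h⁻¹ * g ∈ C := by
    intro x y hx hy hxy g hgx hgy
    set e := ⁅x, y⁆ with he
    have heZ : e ∈ Z := hcommZ x hx y hy
    have he1 : e ≠ 1 := fun h => hxy (commutatorElement_eq_one_iff_commute.mp h)
    obtain ⟨a, ha⟩ := mem_zpowers_iff.mp (hZgen e heZ he1 _ hgx)
    obtain ⟨b, hb⟩ := mem_zpowers_iff.mp (hZgen e heZ he1 _ hgy)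
    have hex : Commute e x := (hZcomm e heZ x hx).symm
    have hey : Commute e y := (hZcomm e heZ y hy).symm
    have hyx : Commute ⁅x, y⁆ x := hex
    refine ⟨x ^ b * y ^ (-a), mul_mem (zpow_mem (inl_mem _ _) _) (zpow_mem (inr_mem _ _) _), ?_⟩
    set k := x ^ b * y ^ (-a) with hk
    have h1 : ⁅y ^ (-a), x⁆ = e ^ a := by
      have hyx' : ⁅y, x⁆ = e⁻¹ := by rw [he, commutatorElement_inv]
      have hc1 : ⁅y ^ (-a), x ^ (1 : ℤ)⁆ = ⁅y, x⁆ ^ (-a * 1) := OddLocal.commutator_zpow_zpow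
        (hyx' ▸ hey.inv_left) (hyx' ▸ hex.inv_left) _ _
      rw [zpow_one, mul_one, hyx', inv_zpow', neg_neg] at hc1
      exact hc1
    have h2 : ⁅x ^ b, y⁆ = e ^ b := by
      have hc1 : ⁅x ^ b, y ^ (1 : ℤ)⁆ = ⁅x, y⁆ ^ (b * 1) := OddLocal.commutator_zpow_zpow hex hey _ _
      rwa [zpow_one, mul_one] at hc1
    have hcz : ∀ j : ℤ, ∀ t ∈ H, Commute (e ^ j) t := fun j t ht => ((hZcomm e heZ t ht).symm).zpow_left j
    have hkx : k * x * k⁻¹ = e ^ a * x := by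
      have e1 : y ^ (-a) * x * (y ^ (-a))⁻¹ = e ^ a * x := by rw [← h1, commutatorElement_def]; group
      calc k * x * k⁻¹ = x ^ b * (y ^ (-a) * x * (y ^ (-a))⁻¹) * (x ^ b)⁻¹ := by rw [hk]; group
        _ = x ^ b * e ^ a * x * (x ^ b)⁻¹ := by rw [e1]; group
        _ = e ^ a * x := by rw [((hcz a _ (zpow_mem hx b)).symm).eq]; group
    have hky : k * y * k⁻¹ = e ^ b * y := by
      have e1 : x ^ b * y * (x ^ b)⁻¹ = e ^ b * y := by rw [← h2, commutatorElement_def]; group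
      calc k * y * k⁻¹ = x ^ b * y * (x ^ b)⁻¹ := by rw [hk]; group
        _ = e ^ b * y := e1
    have hgx' : g * x * g⁻¹ = k * x * k⁻¹ := by rw [hkx, ha, commutatorElement_def]; group
    have hgy' : g * y * g⁻¹ = k * y * k⁻¹ := by rw [hky, hb, commutatorElement_def]; group
    have hfix : ∀ t, g * t * g⁻¹ = k * t * k⁻¹ → t * (k⁻¹ * g) = k⁻¹ * g * t := fun t ht => by
      calc t * (k⁻¹ * g) = k⁻¹ * (k * t * k⁻¹) * g := by group
        _ = k⁻¹ * g * t := by rw [← ht]; group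
    have hgenH : H ≤ closure ({x, y} : Set G) := by
      obtain ⟨hY, -, -, hYH⟩ := mkY x hx (fun h => hxy (hZcomm x h y hy).symm) _ rfl
      have hle : closure ({x, y} : Set G) ≤ H := (closure_le _).mpr (Set.insert_subset hx (Set.singleton_subset_iff.mpr hy))
      refine (eq_of_le_of_card_ge hle ?_).ge
      have hlt : zpowers x ⊔ Z < closure ({x, y} : Set G) := by
        refine lt_of_le_of_ne (sup_le (zpowers_le.mpr (inl_mem _ _)) fun w hw => ?_) fun eq => ?_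
        · obtain ⟨i, hi⟩ := mem_zpowers_iff.mp (hZgen e heZ he1 w hw)
          rw [← hi]
          exact zpow_mem (by
            rw [he, commutatorElement_def]
            exact mul_mem (mul_mem (mul_mem (inl_mem _ _) (inr_mem _ _)) (inv_mem (inl_mem _ _))) (inv_mem (inr_mem _ _))) i
        · exact hxy ((mkY x hx (fun h => hxy (hZcomm x h y hy).symm) _ rfl).2.1 x
            (mem_sup_left (mem_zpowers _)) y (eq ▸ inr_mem x y))
      have h3 := Basics.card_lt_of_lt hlt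
      obtain ⟨j, hj⟩ := IsPGroup.iff_card.mp (hG.to_subgroup (closure ({x, y} : Set G)))
      rw [hY, hj, Nat.pow_lt_pow_iff_right hp.out.one_lt] at h3
      rw [hH, hj]
      exact Nat.pow_le_pow_right hp.out.pos h3
    refine mem_centralizer_iff.mpr fun t ht => ?_
    have ht' := hgenH ht
    have hle : closure ({x, y} : Set G) ≤ centralizer {k⁻¹ * g} := (closure_le _).mpr (by
      rintro s (rfl | rfl)
      · exact mem_centralizer_singleton_iff.mpr (hfix _ hgx')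
      · exact mem_centralizer_singleton_iff.mpr (hfix _ hgy'))
    exact mem_centralizer_singleton_iff.mp (hle ht')
  have hHC : ∀ Hs : Subgroup G, H ≤ Hs → ∀ c ∈ Hs, Nat.card (H ⊔ zpowers c : Subgroup G) * Nat.card (H ⊓ zpowers c : Subgroup G) =
      p ^ 3 * orderOf c := by
    intro Hs _ c _
    rw [← hH, ← Nat.card_zpowers c]
    have hN : zpowers c ≤ normalizer (H : Set G) := by rw [normalizer_eq_top]; exact le_top
    exact (Basics.card_mul_card_eq_card_sup_mul_card_inf (N := H) (H := zpowers c) hN).symm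
  by_cases hall : ∀ g : G, ⁅g, x₀⁆ ∈ Z ∧ ⁅g, y₀⁆ ∈ Z
  · -- first family
    left
    have htop : H ⊔ zpowers c₀ = ⊤ := eq_top_iff.mpr fun g _ => by
      obtain ⟨h, hh, hhg⟩ := hinner x₀ y₀ hx₀ hy₀ hxy₀ g (hall g).1 (hall g).2
      rw [show g = h * (h⁻¹ * g) by group]
      exact mul_mem (mem_sup_left ((closure_le H).mpr (Set.insert_subset hx₀ (Set.singleton_subset_iff.mpr hy₀)) hh))
        (mem_sup_right (hCz ▸ hhg))
    have hinf : H ⊓ zpowers c₀ = Z := by rw [← hCz]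
    have hcard := hHC ⊤ le_top c₀ (mem_top _)
    rw [htop, hinf, card_top, hn, hZ, hkc, ← pow_succ, ← pow_add] at hcard
    have hm : n = m + 3 := by
      have := Nat.pow_right_injective hp.out.two_le hcard
      omega
    have hw : x₀⁻¹ * y₀ * x₀ * y₀⁻¹ ∈ Z := by
      rw [show x₀⁻¹ * y₀ * x₀ * y₀⁻¹ = ⁅x₀⁻¹, y₀⁆ by rw [commutatorElement_def]; group]
      exact hcommZ _ (inv_mem hx₀) _ hy₀
    obtain ⟨t, ht⟩ := mem_zpowers_iff.mp (hZgen w₀ hw₀Z hw₀1 _ hw)
    refine ⟨by omega, x₀, y₀, c₀ ^ t, ?_, hexp _ hx₀, hexp _ hy₀, ?_, ?_, ?_, ?_⟩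
    · refine eq_top_iff.mpr (htop ▸ sup_le ?_ ?_)
      · intro h hh
        set K := closure ({x₀, y₀, c₀ ^ t} : Set G)
        have hxK : x₀ ∈ K := Subgroup.subset_closure (by simp)
        have hyK : y₀ ∈ K := Subgroup.subset_closure (by simp)
        obtain ⟨k, hk, hkc'⟩ := hinner x₀ y₀ hx₀ hy₀ hxy₀ h (hcommZ h hh x₀ hx₀) (hcommZ h hh y₀ hy₀)
        have hkK : k ∈ K := (closure_le K).mpr (Set.insert_subset hxK (Set.singleton_subset_iff.mpr hyK)) hk
        have hkH : k ∈ H := (closure_le H).mpr (Set.insert_subset hx₀ (Set.singleton_subset_iff.mpr hy₀)) hk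
        have hz : k⁻¹ * h ∈ Z := mem_inf.mpr ⟨mul_mem (inv_mem hkH) hh, hkc'⟩
        have heK : ⁅x₀, y₀⁆ ∈ K := by
          rw [commutatorElement_def]; exact mul_mem (mul_mem (mul_mem hxK hyK) (inv_mem hxK)) (inv_mem hyK)
        obtain ⟨i, hi⟩ := mem_zpowers_iff.mp (hZgen _ (hcommZ x₀ hx₀ y₀ hy₀)
          (fun e => hxy₀ (commutatorElement_eq_one_iff_mul_comm.mp e)) _ hz)
        rw [show h = k * (k⁻¹ * h) by group, ← hi]
        exact mul_mem hkK (zpow_mem heK i)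
      · have hpt : ¬ (p : ℤ) ∣ t := by
          intro hd
          obtain ⟨t', rfl⟩ := hd
          rw [zpow_mul, zpow_natCast, hw₀p, one_zpow] at ht
          exact hxy₀ (by
            have : y₀ * x₀ = x₀ * y₀ := by
              calc y₀ * x₀ = x₀ * (x₀⁻¹ * y₀ * x₀ * y₀⁻¹) * y₀ := by group
                _ = x₀ * y₀ := by rw [← ht, mul_one]
            exact this.symm)
        obtain ⟨u, v, huv⟩ : IsCoprime t ((p : ℤ) ^ (m + 1)) :=
          (((Nat.prime_iff_prime_int.mp hp.out).coprime_iff_not_dvd.mpr hpt).symm).pow_right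
        have h1 : c₀ ^ ((p : ℤ) ^ (m + 1)) = 1 := by rw [← Nat.cast_pow, zpow_natCast, ← hkc, pow_orderOf_eq_one]
        have : c₀ = (c₀ ^ t) ^ u := by
          calc c₀ = c₀ ^ (u * t + v * (p : ℤ) ^ (m + 1)) := by rw [huv, zpow_one]
            _ = (c₀ ^ t) ^ u := by
              rw [zpow_add, mul_comm u, zpow_mul, mul_comm v, zpow_mul, h1, one_zpow, mul_one]
        refine zpowers_le.mpr ?_
        have h2 := zpow_mem (show c₀ ^ t ∈ closure ({x₀, y₀, c₀ ^ t} : Set G) from Subgroup.subset_closure (by simp)) u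
        rwa [← this] at h2
    · rw [show n - 2 = m + 1 by omega, ← hkc, ← zpow_natCast, zpow_comm, zpow_natCast, pow_orderOf_eq_one, one_zpow]
    · exact mem_centralizer_iff.mp (zpow_mem hc₀ t) x₀ hx₀
    · exact mem_centralizer_iff.mp (zpow_mem hc₀ t) y₀ hy₀
    · have h1 : (c₀ ^ t) ^ p ^ (n - 3) = w₀ ^ t := by
        rw [show n - 3 = m by omega, hw₀, ← zpow_natCast, ← zpow_natCast c₀ (p ^ m), ← zpow_mul, ← zpow_mul, mul_comm]
      rw [h1, ht, show y₀ * (x₀⁻¹ * y₀ * x₀ * y₀⁻¹) = (x₀⁻¹ * y₀ * x₀ * y₀⁻¹) * y₀ from (hZcomm _ hw y₀ hy₀).eq]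
      group
  -- second family
  right
  set Y : Subgroup G := ⁅H, (⊤ : Subgroup G)⁆ ⊔ Z with hYdef
  haveI hYn : Y.Normal := inferInstance
  have hYH : Y < H := lt_of_le_not_ge (sup_le (commutator_le_left _ _) hZH) (not_le_comm_sup fun h => hx₀Z (h hx₀))
  have hZY : Z < Y := by
    refine lt_of_le_of_ne le_sup_right fun e => hall fun g => ?_
    have key : ∀ a ∈ H, ⁅g, a⁆ ∈ Z := fun a ha => by
      rw [← commutatorElement_inv]
      exact inv_mem (e.symm ▸ mem_sup_left (commutator_mem_commutator ha (mem_top g)))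
    exact ⟨key _ hx₀, key _ hy₀⟩
  have hY : Nat.card Y = p ^ 2 := card_normal_between hG (k := 1) (by rw [pow_one]; exact hZ) hZY hYH hH
  obtain ⟨y₁, hy₁, hy₁Z⟩ := SetLike.exists_of_lt hZY
  obtain ⟨hY1, hYc, hYp, -⟩ := mkY y₁ (hYH.le hy₁) hy₁Z _ rfl
  have hYeq : zpowers y₁ ⊔ Z = Y := eq_of_le_of_card_ge (sup_le (zpowers_le.mpr hy₁) hZY.le) (hY.le.trans hY1.ge)
  rw [hYeq] at hYc hYp
  have hYG : ∀ a ∈ Y, ∀ g : G, ⁅g, a⁆ ∈ Z := by
    intro a ha g
    have hlt : ⁅Y, (⊤ : Subgroup G)⁆ ⊔ Z < Y :=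
      lt_of_le_not_ge (sup_le (commutator_le_left _ _) hZY.le) (not_le_comm_sup hZY.not_ge)
    have heq : ⁅Y, (⊤ : Subgroup G)⁆ ⊔ Z = Z := (eq_of_le_of_card_ge le_sup_right (by
      have h1 := Basics.card_lt_of_lt hlt
      obtain ⟨j, hj⟩ := IsPGroup.iff_card.mp (hG.to_subgroup (⁅Y, (⊤ : Subgroup G)⁆ ⊔ Z))
      rw [hj, hY, Nat.pow_lt_pow_iff_right hp.out.one_lt] at h1
      rw [hj, hZ]
      exact (Nat.pow_le_pow_right hp.out.pos (show j ≤ 1 by omega)).trans (pow_one p).le)).symm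
    rw [← commutatorElement_inv]
    exact inv_mem (heq ▸ mem_sup_left (commutator_mem_commutator ha (mem_top g)))
  obtain ⟨x, hx, hxY⟩ := SetLike.exists_of_lt hYH
  have hxy : ∀ y ∈ Y, y ∉ Z → ¬ Commute x y := by
    intro y hy hyZ hcm
    obtain ⟨hY2, -, -, -⟩ := mkY y (hYH.le hy) hyZ _ rfl
    have hYy : zpowers y ⊔ Z = Y := eq_of_le_of_card_ge (sup_le (zpowers_le.mpr hy) hZY.le) (hY.le.trans hY2.ge)
    refine hxY (mem_of_rank hrk hY hYc hYp (hexp x hx) fun a ha => ?_)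
    rw [← hYy] at ha
    obtain ⟨a₁, ha₁, a₂, ha₂, rfl⟩ := mem_sup_of_normal_right.mp ha
    obtain ⟨i, rfl⟩ := mem_zpowers_iff.mp ha₁
    exact ((hcm.symm.zpow_left i)).mul_left (hZcomm a₂ ha₂ x hx).symm
  set M := centralizer (Y : Set G) with hMdef
  haveI hMn : M.Normal := inferInstance
  have hHM : ∀ a ∈ H, a ∈ M → a ∈ Y := fun a ha haM =>
    mem_of_rank hrk hY hYc hYp (hexp a ha) fun b hb => mem_centralizer_iff.mp haM b hb
  have hYM : ∀ a ∈ Y, a ∈ M := fun a ha => mem_centralizer_iff.mpr fun b hb => (hYc b hb a ha).eq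
  have hCM : ∀ c ∈ C, c ∈ M := fun c hc => mem_centralizer_iff.mpr fun b hb => mem_centralizer_iff.mp hc b (hYH.le hb)
  -- `G = M ⟨x⟩`
  have hGM : ∀ g : G, ∃ i : ℤ, g * x ^ i ∈ M := by
    intro g
    set e := ⁅x, y₁⁆ with he
    have heZ : e ∈ Z := hcommZ x hx y₁ (hYH.le hy₁)
    have he1 : e ≠ 1 := fun h => hxy y₁ hy₁ hy₁Z (commutatorElement_eq_one_iff_commute.mp h)
    obtain ⟨k, hk⟩ := mem_zpowers_iff.mp (hZgen e heZ he1 _ (hYG y₁ hy₁ g))
    refine ⟨-k, mem_centralizer_iff.mpr fun b hb => ?_⟩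
    have hex : Commute e x := (hZcomm e heZ x hx).symm
    have hey : Commute e y₁ := (hZcomm e heZ _ (hYH.le hy₁)).symm
    have h2 : ⁅x ^ (-k), y₁⁆ = e ^ (-k) := by
      have hc1 : ⁅x ^ (-k), y₁ ^ (1 : ℤ)⁆ = ⁅x, y₁⁆ ^ (-k * 1) := OddLocal.commutator_zpow_zpow hex hey _ _
      rwa [zpow_one, mul_one] at hc1
    have hfix : (g * x ^ (-k)) * y₁ * (g * x ^ (-k))⁻¹ = y₁ := by
      have e1 : x ^ (-k) * y₁ * (x ^ (-k))⁻¹ = e ^ (-k) * y₁ := by rw [← h2, commutatorElement_def]; group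
      have hgz : g * e ^ (-k) * g⁻¹ = e ^ (-k) := by
        obtain ⟨z, hz, hzc, hz1⟩ := OddLocal.exists_mem_center_ne_one_of_normal hG Z (fun h => he1 (by
          rw [h, mem_bot] at heZ; exact heZ))
        obtain ⟨j, hj⟩ := mem_zpowers_iff.mp (hZgen z hz hz1 _ (zpow_mem heZ (-k)))
        rw [← hj, (((show Commute g z from mem_center_iff.mp hzc g)).zpow_right j).eq, mul_inv_cancel_right]
      calc (g * x ^ (-k)) * y₁ * (g * x ^ (-k))⁻¹ = g * (x ^ (-k) * y₁ * (x ^ (-k))⁻¹) * g⁻¹ := by group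
        _ = (g * e ^ (-k) * g⁻¹) * (⁅g, y₁⁆ * y₁) := by rw [e1, commutatorElement_def]; group
        _ = y₁ := by rw [hgz, ← hk]; group
    have hb' : b ∈ zpowers y₁ ⊔ Z := hYeq.symm ▸ hb
    obtain ⟨b₁, hb₁, b₂, hb₂, rfl⟩ := mem_sup_of_normal_right.mp hb'
    obtain ⟨i, rfl⟩ := mem_zpowers_iff.mp hb₁
    have c1 : Commute y₁ (g * x ^ (-k)) := (mul_inv_eq_iff_eq_mul.mp hfix).symm
    have c2 : Commute b₂ (g * x ^ (-k)) := by
      obtain ⟨z, hz, hzc, hz1⟩ := OddLocal.exists_mem_center_ne_one_of_normal hG Z (fun h => he1 (by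
        rw [h, mem_bot] at heZ; exact heZ))
      obtain ⟨j, rfl⟩ := mem_zpowers_iff.mp (hZgen z hz hz1 _ hb₂)
      exact ((show Commute (g * x ^ (-k)) z from mem_center_iff.mp hzc _).zpow_right j).symm
    exact ((c1.zpow_left i).mul_left c2).eq
  have hZcen : ∀ e ∈ Z, ∀ g : G, Commute g e := by
    intro e he g
    obtain ⟨z, hz, hzc, hz1⟩ := OddLocal.exists_mem_center_ne_one_of_normal hG Z (fun h => hw₀1 (by
      rw [h, mem_bot] at hw₀Z; exact hw₀Z))
    obtain ⟨j, rfl⟩ := mem_zpowers_iff.mp (hZgen z hz hz1 _ he)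
    exact (show Commute g z from mem_center_iff.mp hzc g).zpow_right j
  have hinnerM : ∀ g ∈ M, ⁅g, x⁆ ∈ Z → ∃ h ∈ closure ({x, y₁} : Set G), h⁻¹ * g ∈ C := fun g hg hgx =>
    hinner x y₁ hx (hYH.le hy₁) (hxy y₁ hy₁ hy₁Z) g hgx (hYG y₁ hy₁ g)
  obtain ⟨z, hzM, hzx⟩ : ∃ z ∈ M, ⁅x⁻¹, z⁆ ∉ Z := by
    by_contra! hno
    refine hall fun g => ?_
    obtain ⟨i, hi⟩ := hGM g
    have h1 : ⁅g * x ^ i, x⁆ ∈ Z := by
      have h2 := hno _ hi
      rw [show ⁅g * x ^ i, x⁆ = x * ⁅x⁻¹, g * x ^ i⁆ * x⁻¹ by rw [commutatorElement_def, commutatorElement_def]; group]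
      exact hZn.conj_mem _ h2 x
    obtain ⟨h, hh, hhg⟩ := hinnerM _ hi h1
    have hhH : h ∈ H := (closure_le H).mpr (Set.insert_subset hx (Set.singleton_subset_iff.mpr (hYH.le hy₁))) hh
    have key : ∀ a ∈ H, ⁅g, a⁆ ∈ Z := by
      intro a ha
      set c := h⁻¹ * (g * x ^ i) with hc
      have hg : g = h * c * x ^ (-i) := by rw [hc]; group
      have hca : c * (x ^ (-i) * a * (x ^ (-i))⁻¹) * c⁻¹ = x ^ (-i) * a * (x ^ (-i))⁻¹ := by
        rw [← mem_centralizer_iff.mp hhg _ (mul_mem (mul_mem (zpow_mem hx _) ha) (inv_mem (zpow_mem hx _))), mul_inv_cancel_right]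
      have : ⁅g, a⁆ = ⁅h * x ^ (-i), a⁆ := by
        rw [commutatorElement_def, commutatorElement_def, hg]
        calc h * c * x ^ (-i) * a * (h * c * x ^ (-i))⁻¹ * a⁻¹
            = h * (c * (x ^ (-i) * a * (x ^ (-i))⁻¹) * c⁻¹) * h⁻¹ * a⁻¹ := by group
          _ = _ := by rw [hca]; group
      rw [this]
      exact hcommZ _ (mul_mem hhH (zpow_mem hx _)) a ha
    exact ⟨key _ hx₀, key _ hy₀⟩
  set y := ⁅x⁻¹, z⁆ with hy
  have hyH : y ∈ H := by
    rw [hy, show ⁅x⁻¹, z⁆ = x⁻¹ * (z * x * z⁻¹) by rw [commutatorElement_def]; group]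
    exact mul_mem (inv_mem hx) ((inferInstance : H.Normal).conj_mem x hx z)
  have hyM : y ∈ M := by
    rw [hy, show ⁅x⁻¹, z⁆ = (x⁻¹ * z * (x⁻¹)⁻¹) * z⁻¹ by rw [commutatorElement_def]]
    exact mul_mem (hMn.conj_mem z hzM x⁻¹) (inv_mem hzM)
  have hyY : y ∈ Y := hHM y hyH hyM
  have hyz : Commute y z := mem_centralizer_iff.mp hzM y hyY
  have hxz : x⁻¹ * z * x = y * z := by rw [hy, commutatorElement_def]; group
  have hzpx : x⁻¹ * z ^ p * x = z ^ p := by
    have h1 : x⁻¹ * z ^ p * (x⁻¹)⁻¹ = z ^ p := by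
      rw [← conj_pow, inv_inv, hxz, hyz.mul_pow, hexp y hyH, one_mul]
    rwa [inv_inv] at h1
  have hzpC : z ^ p ∈ C := by
    refine mem_centralizer_iff.mpr fun a ha => ?_
    obtain ⟨k, hk, hkc'⟩ := hinner x y hx hyH (hxy y hyY hzx) a (hcommZ a ha x hx) (hcommZ a ha y hyH)
    have hle : closure ({x, y} : Set G) ≤ centralizer {z ^ p} := (closure_le _).mpr (by
      rintro s (rfl | rfl)
      · refine mem_centralizer_singleton_iff.mpr ?_
        calc s * z ^ p = s * (s⁻¹ * z ^ p * s) := by rw [hzpx]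
          _ = z ^ p * s := by group
      · exact mem_centralizer_singleton_iff.mpr (hyz.pow_right p).eq)
    have hkH : k ∈ H := (closure_le H).mpr (Set.insert_subset hx (Set.singleton_subset_iff.mpr hyH)) hk
    have hkZ : k⁻¹ * a ∈ Z := mem_inf.mpr ⟨mul_mem (inv_mem hkH) ha, hkc'⟩
    rw [show a = k * (k⁻¹ * a) by group]
    exact (Commute.mul_left (mem_centralizer_singleton_iff.mp (hle hk) : Commute k (z ^ p))
      (hZcen _ hkZ _).symm).eq
  -- `z ^ p` generates the centralizer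
  have hzgen : C = zpowers (z ^ p) := by
    refine le_antisymm ?_ (zpowers_le.mpr hzpC)
    obtain ⟨i, hi⟩ := mem_zpowers_iff.mp (hCz ▸ hzpC)
    by_cases hpi : (p : ℤ) ∣ i
    · exfalso
      obtain ⟨i', rfl⟩ := hpi
      set c := c₀ ^ i' with hc
      have hcC : c ∈ C := zpow_mem hc₀ _
      have hcp : c ^ p = z ^ p := by rw [← hi, hc, ← zpow_natCast, ← zpow_mul, mul_comm]
      have hconj : z * c * z⁻¹ ∈ C := hCn.conj_mem c hcC z
      set d := ⁅z, c⁆ with hd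
      have hdC : d ∈ C := by rw [hd, commutatorElement_def]; exact mul_mem hconj (inv_mem hcC)
      have hdc : ∀ a ∈ C, Commute a d := fun a ha =>
        haveI := hCcyc
        congrArg Subtype.val ((IsCyclic.commGroup (α := ↥C)).mul_comm ⟨a, ha⟩ ⟨d, hdC⟩)
      have hdp : d ^ p = 1 := by
        have hz' : z * c * z⁻¹ = d * c := by rw [hd, commutatorElement_def]; group
        have h1 : (z * c * z⁻¹) ^ p = c ^ p := by rw [conj_pow, hcp, ← pow_succ' , pow_succ, mul_inv_cancel_right]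
        rw [hz', (hdc c hcC).symm.mul_pow] at h1
        exact mul_eq_right.mp h1
      have hdZ : d ∈ Z := hCord d hdC hdp
      have hcd : ⁅c⁻¹, z⁆ ∈ Z := by
        rw [show ⁅c⁻¹, z⁆ = c⁻¹ * d * (c⁻¹)⁻¹ by rw [hd, commutatorElement_def, commutatorElement_def]; group]
        exact hZn.conj_mem d hdZ _
      have hpow : (z * c⁻¹) ^ p = 1 := by
        rw [mul_pow_p hp2 ((hZcen _ hcd z).symm) ((hZcen _ hcd c⁻¹).symm) (hexp _ hcd.1), inv_pow, hcp, mul_inv_cancel]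
      have hin : z * c⁻¹ ∈ Y := mem_of_rank hrk hY hYc hYp hpow fun a ha =>
        (show Commute a z from mem_centralizer_iff.mp hzM a ha).mul_right
          (show Commute a c from mem_centralizer_iff.mp hcC a (hYH.le ha)).inv_right
      refine hzx ?_
      have hxc : c * x = x * c := (mem_centralizer_iff.mp hcC x hx).symm
      rw [hy, show ⁅x⁻¹, z⁆ = ⁅x⁻¹, z * c⁻¹⁆ by
        rw [commutatorElement_def, commutatorElement_def]
        have : x⁻¹ * (z * c⁻¹) * x⁻¹⁻¹ * (z * c⁻¹)⁻¹ = x⁻¹ * z * (c⁻¹ * (x * c)) * z⁻¹ := by group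
        rw [this, ← hxc]; group]
      exact hcommZ _ (inv_mem hx) _ (hYH.le hin)
    · rw [hCz, zpowers_le]
      obtain ⟨u, v, huv⟩ : IsCoprime i ((p : ℤ) ^ (m + 1)) :=
        (((Nat.prime_iff_prime_int.mp hp.out).coprime_iff_not_dvd.mpr hpi).symm).pow_right
      have h1 : c₀ ^ ((p : ℤ) ^ (m + 1)) = 1 := by rw [← Nat.cast_pow, zpow_natCast, ← hkc, pow_orderOf_eq_one]
      refine mem_zpowers_iff.mpr ⟨u, ?_⟩
      calc (z ^ p) ^ u = (c₀ ^ i) ^ u * (c₀ ^ ((p : ℤ) ^ (m + 1))) ^ v := by rw [hi, h1, one_zpow, mul_one]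
        _ = c₀ ^ (u * i + v * (p : ℤ) ^ (m + 1)) := by rw [← zpow_mul, ← zpow_mul, ← zpow_add]; ring_nf
        _ = c₀ := by rw [huv, zpow_one]
  have hzo : orderOf z = p ^ (m + 2) := by
    have h1 : orderOf (z ^ p) = p ^ (m + 1) := by rw [← Nat.card_zpowers, ← hzgen, hCz, Nat.card_zpowers, hkc]
    obtain ⟨e, he⟩ := IsPGroup.iff_orderOf.mp hG z
    rcases e with _ | e
    · rw [orderOf_eq_one_iff.mp (he.trans (pow_zero p)), one_pow, orderOf_one] at h1
      exact absurd h1.symm (Nat.one_lt_pow m.succ_ne_zero hp.out.one_lt).ne'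
    · rw [orderOf_pow' z hp.out.ne_zero, he, Nat.gcd_eq_right (dvd_pow_self p e.succ_ne_zero), pow_succ,
        Nat.mul_div_cancel _ hp.out.pos] at h1
      rw [he, Nat.pow_right_injective hp.out.two_le h1]
  have htop : H ⊔ zpowers z = ⊤ := eq_top_iff.mpr fun g _ => by
    obtain ⟨i, hi⟩ := hGM g
    have hg' : ⁅x⁻¹, g * x ^ i⁆ ∈ Y := by
      refine hHM _ ?_ ?_
      · rw [show ⁅x⁻¹, g * x ^ i⁆ = x⁻¹ * ((g * x ^ i) * x * (g * x ^ i)⁻¹) by rw [commutatorElement_def]; group]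
        exact mul_mem (inv_mem hx) ((inferInstance : H.Normal).conj_mem x hx _)
      · rw [show ⁅x⁻¹, g * x ^ i⁆ = (x⁻¹ * (g * x ^ i) * (x⁻¹)⁻¹) * (g * x ^ i)⁻¹ by rw [commutatorElement_def]]
        exact mul_mem (hMn.conj_mem _ hi x⁻¹) (inv_mem hi)
    obtain ⟨hY2, -, -, -⟩ := mkY y hyH hzx _ rfl
    have hYy : zpowers y ⊔ Z = Y := eq_of_le_of_card_ge (sup_le (zpowers_le.mpr hyY) hZY.le) (hY.le.trans hY2.ge)
    obtain ⟨a₁, ha₁, a₂, ha₂, hae⟩ := mem_sup_of_normal_right.mp (hYy.symm ▸ hg')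
    obtain ⟨a, rfl⟩ := mem_zpowers_iff.mp ha₁
    set g' := g * x ^ i * z ^ (-a) with hg'def
    have hg'M : g' ∈ M := mul_mem hi (zpow_mem hzM _)
    have h1 : ⁅x⁻¹, g'⁆ ∈ Z := by
      have e1 : x⁻¹ * z ^ (-a) * (x⁻¹)⁻¹ = y ^ (-a) * z ^ (-a) := by
        rw [← conj_zpow, inv_inv, hxz, hyz.mul_zpow]
      have e3 : Commute (g * x ^ i) (y ^ (-a)) := ((show Commute y (g * x ^ i) from
        mem_centralizer_iff.mp hi y hyY).zpow_left (-a)).symm
      have e4 : ⁅x⁻¹, g'⁆ = ⁅x⁻¹, g * x ^ i⁆ * y ^ (-a) := by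
        calc ⁅x⁻¹, g'⁆ = ⁅x⁻¹, g * x ^ i⁆ * ((g * x ^ i) * (x⁻¹ * z ^ (-a) * (x⁻¹)⁻¹) * (z ^ (-a))⁻¹ * (g * x ^ i)⁻¹) := by
              rw [hg'def, commutatorElement_def, commutatorElement_def]; group
          _ = ⁅x⁻¹, g * x ^ i⁆ * ((g * x ^ i) * y ^ (-a) * (g * x ^ i)⁻¹) := by rw [e1]; group
          _ = _ := by rw [e3.eq, mul_inv_cancel_right]
      rw [e4, ← hae, mul_assoc, (hZcen a₂ ha₂ (y ^ (-a))).symm.eq, ← mul_assoc, ← zpow_add, add_neg_cancel, zpow_zero, one_mul]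
      exact ha₂
    have h2 : ⁅g', x⁆ ∈ Z := by
      rw [show ⁅g', x⁆ = x * ⁅x⁻¹, g'⁆ * x⁻¹ by rw [commutatorElement_def, commutatorElement_def]; group]
      exact hZn.conj_mem _ h1 x
    obtain ⟨k, hk, hkg⟩ := hinnerM g' hg'M h2
    rw [show g = k * (k⁻¹ * g') * z ^ a * x ^ (-i) by rw [hg'def]; group]
    refine mul_mem (mul_mem (mul_mem (mem_sup_left ((closure_le H).mpr
      (Set.insert_subset hx (Set.singleton_subset_iff.mpr (hYH.le hy₁))) hk)) (mem_sup_right ?_))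
      (mem_sup_right (zpow_mem (mem_zpowers z) a))) (mem_sup_left (zpow_mem hx _))
    rw [hzgen] at hkg
    exact zpowers_le.mpr (pow_mem (mem_zpowers z) p) hkg
  have hinf : H ⊓ zpowers z = Z := by
    refine le_antisymm ?_ (le_inf hZH fun e he => zpowers_le.mpr (pow_mem (mem_zpowers z) p) (hzgen ▸ he.2))
    rintro a ⟨haH, haz⟩
    obtain ⟨i, rfl⟩ := mem_zpowers_iff.mp haz
    by_cases hpi : (p : ℤ) ∣ i
    · obtain ⟨i', rfl⟩ := hpi
      exact ⟨haH, by rw [zpow_mul, zpow_natCast]; exact zpow_mem hzpC i'⟩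
    · exfalso
      obtain ⟨u, v, huv⟩ : IsCoprime i ((p : ℤ) ^ (m + 2)) :=
        (((Nat.prime_iff_prime_int.mp hp.out).coprime_iff_not_dvd.mpr hpi).symm).pow_right
      have h1 : z ^ ((p : ℤ) ^ (m + 2)) = 1 := by rw [← Nat.cast_pow, zpow_natCast, ← hzo, pow_orderOf_eq_one]
      have hzH : z ∈ H := by
        have : z = (z ^ i) ^ u := by
          calc z = z ^ (u * i + v * (p : ℤ) ^ (m + 2)) := by rw [huv, zpow_one]
            _ = (z ^ i) ^ u := by rw [zpow_add, mul_comm u, zpow_mul, mul_comm v, zpow_mul, h1, one_zpow, mul_one]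
        rw [this]; exact H.zpow_mem haH u
      exact hzx (hcommZ _ (inv_mem hx) _ hzH)
  have hcard := hHC ⊤ le_top z (mem_top _)
  rw [htop, hinf, card_top, hn, hZ, hzo, ← pow_succ, ← pow_add] at hcard
  have hm : n = m + 4 := by
    have := Nat.pow_right_injective hp.out.two_le hcard
    omega
  set ζ := z ^ p ^ (m + 1) with hζ
  have hζp : ζ ^ p = 1 := by rw [hζ, ← pow_mul, ← pow_succ, ← hzo, pow_orderOf_eq_one]
  have hζC : ζ ∈ C := by rw [hζ, pow_succ', pow_mul]; exact pow_mem hzpC _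
  have hζZ : ζ ∈ Z := hCord ζ hζC hζp
  have hζ1 : ζ ≠ 1 := fun e => by
    have h := orderOf_dvd_of_pow_eq_one (hζ ▸ e : z ^ p ^ (m + 1) = 1)
    rw [hzo, Nat.pow_dvd_pow_iff_le_right hp.out.one_lt] at h
    omega
  have hw : x⁻¹ * y * x * y⁻¹ ∈ Z := by
    rw [show x⁻¹ * y * x * y⁻¹ = ⁅x⁻¹, y⁆ by rw [commutatorElement_def]; group]
    exact hcommZ _ (inv_mem hx) _ hyH
  obtain ⟨t₀, ht₀⟩ := mem_zpowers_iff.mp (hZgen ζ hζZ hζ1 _ hw)
  obtain ⟨t, ht, htp⟩ : ∃ t : ℕ, x⁻¹ * y * x = y * ζ ^ t ∧ ¬ p ∣ t := by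
    refine ⟨(t₀ % p).toNat, ?_, ?_⟩
    · have hnn : 0 ≤ t₀ % p := Int.emod_nonneg _ (by exact_mod_cast hp.out.ne_zero)
      have : ζ ^ (t₀ % p).toNat = ζ ^ t₀ := by
        rw [← zpow_natCast, Int.toNat_of_nonneg hnn, Int.emod_def, zpow_sub, zpow_mul, zpow_natCast, hζp, one_zpow, inv_one, mul_one]
      rw [this, ht₀, show y * (x⁻¹ * y * x * y⁻¹) = (x⁻¹ * y * x * y⁻¹) * y from (hZcomm _ hw y hyH).eq]
      group
    · intro hd
      have hnn : 0 ≤ t₀ % p := Int.emod_nonneg _ (by exact_mod_cast hp.out.ne_zero)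
      have hlt : t₀ % p < p := Int.emod_lt_of_pos _ (by exact_mod_cast hp.out.pos)
      have h0 : t₀ % p = 0 := by
        by_contra hne
        exact absurd (Nat.le_of_dvd (by omega) hd) (by omega)
      obtain ⟨t', rfl⟩ := Int.dvd_of_emod_eq_zero h0
      rw [zpow_mul, zpow_natCast, hζp, one_zpow] at ht₀
      refine hxy y hyY hzx ?_
      show x * y = y * x
      calc x * y = x * (x⁻¹ * y * x * y⁻¹) * y := by rw [← ht₀, mul_one]
        _ = y * x := by group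
  have hcy : Commute ζ y := (hZcen _ hζZ y).symm
  have hcz : Commute ζ z := (hZcen _ hζZ z).symm
  have hcx : Commute ζ x := (hZcen _ hζZ x).symm
  have hconjy : ∀ i : ℕ, (x ^ i)⁻¹ * y * x ^ i = y * ζ ^ (t * i) := by
    intro i
    induction i with
    | zero => simp
    | succ i ih =>
      calc (x ^ (i + 1))⁻¹ * y * x ^ (i + 1) = x⁻¹ * ((x ^ i)⁻¹ * y * x ^ i) * x := by group
        _ = (x⁻¹ * y * x) * (x⁻¹ * ζ ^ (t * i) * x) := by rw [ih]; group
        _ = y * ζ ^ t * ζ ^ (t * i) := by rw [ht, mul_assoc x⁻¹, (hcx.pow_left _).eq, inv_mul_cancel_left]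
        _ = y * ζ ^ (t * (i + 1)) := by rw [mul_assoc, ← pow_add]; ring_nf
  have hconjz : ∀ i : ℕ, ∃ a : ℕ, (x ^ i)⁻¹ * z * x ^ i = y ^ i * ζ ^ a * z := by
    intro i
    induction i with
    | zero => exact ⟨0, by simp⟩
    | succ i ih =>
      obtain ⟨a, ha⟩ := ih
      refine ⟨t * i + a, ?_⟩
      calc (x ^ (i + 1))⁻¹ * z * x ^ (i + 1) = x⁻¹ * ((x ^ i)⁻¹ * z * x ^ i) * x := by group
        _ = (x⁻¹ * y ^ i * (x⁻¹)⁻¹) * (x⁻¹ * ζ ^ a * x) * (x⁻¹ * z * x) := by rw [ha]; group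
        _ = (y ^ i * ζ ^ (t * i)) * ζ ^ a * (y * z) := by
          rw [← conj_pow, inv_inv, ht, (hcy.pow_left t).symm.mul_pow, ← pow_mul, mul_assoc x⁻¹ (ζ ^ a),
            (hcx.pow_left _).eq, inv_mul_cancel_left, hxz]
        _ = y ^ (i + 1) * ζ ^ (t * i + a) * z := by
          rw [mul_assoc (y ^ i), ← pow_add, mul_assoc (y ^ i), ← mul_assoc (ζ ^ _) y, (hcy.pow_left _).eq,
            pow_succ]
          simp only [mul_assoc]
  refine ⟨by omega, ?_⟩
  by_cases hsq : IsSquare ((t : ℕ) : ZMod p)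
  · obtain ⟨r, hr⟩ := hsq
    have hr0 : r ≠ 0 := by
      rintro rfl
      rw [mul_zero, ZMod.natCast_eq_zero_iff] at hr
      exact htp hr
    set i := (r⁻¹).val with hidef
    have hti : (t * i * i) % p = 1 % p := by
      have : ((t * i * i : ℕ) : ZMod p) = ((1 : ℕ) : ZMod p) := by
        push_cast
        rw [hidef, ZMod.natCast_zmod_val, hr]
        field_simp
      exact (ZMod.natCast_eq_natCast_iff' _ _ _).mp this
    have hipos : ¬ p ∣ i := by
      intro hd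
      have : (t * i * i) % p = 0 := Nat.mod_eq_zero_of_dvd (dvd_mul_of_dvd_right hd _)
      rw [this, Nat.mod_eq_of_lt hp.out.one_lt] at hti
      exact zero_ne_one hti
    obtain ⟨a, ha⟩ := hconjz i
    refine ⟨1, x ^ i, y ^ i * ζ ^ a, z, Or.inl rfl, ?_, ?_, ?_, ?_, ?_, ?_, ha⟩
    · set K := closure ({x ^ i, y ^ i * ζ ^ a, z} : Set G)
      have hzK : z ∈ K := Subgroup.subset_closure (by simp)
      have hζK : ζ ∈ K := pow_mem hzK _
      have hxK : x ∈ K := by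
        obtain ⟨b, hb⟩ := exists_pow_eq_self_of_coprime (x := x) (n := i) (by
          rw [orderOf_eq_prime (hexp x hx) (fun e => hxy y hyY hzx (e ▸ Commute.one_left y))]
          exact (hp.out.coprime_iff_not_dvd.mpr hipos).symm)
        rw [← hb]; exact pow_mem (Subgroup.subset_closure (by simp)) b
      have hyK : y ∈ K := by
        have : y = (x⁻¹ * z * x) * z⁻¹ := by rw [hxz, mul_inv_cancel_right]
        rw [this]
        exact mul_mem (mul_mem (mul_mem (inv_mem hxK) hzK) hxK) (inv_mem hzK)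
      refine eq_top_iff.mpr (htop ▸ sup_le (fun h hh => ?_) (zpowers_le.mpr hzK))
      obtain ⟨k, hk, hkc'⟩ := hinner x y hx hyH (hxy y hyY hzx) h (hcommZ h hh x hx) (hcommZ h hh y hyH)
      rw [show h = k * (k⁻¹ * h) by group]
      refine mul_mem ((closure_le K).mpr (Set.insert_subset hxK (Set.singleton_subset_iff.mpr hyK)) hk) ?_
      exact zpowers_le.mpr (pow_mem hzK p) (hzgen ▸ hkc')
    · rw [← pow_mul, mul_comm, pow_mul, hexp x hx, one_pow]
    · rw [((hcy.pow_pow a i).symm).mul_pow, ← pow_mul, mul_comm i, pow_mul, hexp y hyH, one_pow, one_mul,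
        ← pow_mul, mul_comm a, pow_mul, hζp, one_pow]
    · rw [show n - 2 = m + 2 by omega, ← hzo, pow_orderOf_eq_one]
    · exact ((hyz.pow_left i).mul_left (hcz.pow_left a)).eq
    · rw [show n - 3 = m + 1 by omega, one_mul, ← hζ]
      have h1 : ζ ^ (t * i * i) = ζ := by
        rw [← Nat.div_add_mod (t * i * i) p, pow_add, pow_mul, hζp, one_pow, one_mul, hti,
          Nat.mod_eq_of_lt hp.out.one_lt, pow_one]
      calc (x ^ i)⁻¹ * (y ^ i * ζ ^ a) * x ^ i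
          = ((x ^ i)⁻¹ * y ^ i * ((x ^ i)⁻¹)⁻¹) * ((x ^ i)⁻¹ * ζ ^ a * x ^ i) := by group
        _ = y ^ i * ζ ^ (t * i * i) * ζ ^ a := by
          rw [← conj_pow, inv_inv, hconjy, (hcy.pow_left _).symm.mul_pow, ← pow_mul, mul_assoc ((x ^ i)⁻¹) (ζ ^ a),
            (hcx.pow_pow a i).eq, inv_mul_cancel_left]
        _ = y ^ i * ζ ^ a * ζ := by rw [h1, mul_assoc, mul_assoc, ← pow_succ', pow_succ]
  · refine ⟨t, x, y, z, Or.inr hsq, ?_, hexp x hx, hexp y hyH, ?_, hyz.eq, ?_, hxz⟩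
    · set K := closure ({x, y, z} : Set G)
      have hxK : x ∈ K := Subgroup.subset_closure (by simp)
      have hyK : y ∈ K := Subgroup.subset_closure (by simp)
      have hzK : z ∈ K := Subgroup.subset_closure (by simp)
      refine eq_top_iff.mpr (htop ▸ sup_le (fun h hh => ?_) (zpowers_le.mpr hzK))
      obtain ⟨k, hk, hkc'⟩ := hinner x y hx hyH (hxy y hyY hzx) h (hcommZ h hh x hx) (hcommZ h hh y hyH)
      rw [show h = k * (k⁻¹ * h) by group]
      refine mul_mem ((closure_le K).mpr (Set.insert_subset hxK (Set.singleton_subset_iff.mpr hyK)) hk) ?_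
      exact zpowers_le.mpr (pow_mem hzK p) (hzgen ▸ hkc')
    · rw [show n - 2 = m + 2 by omega, ← hzo, pow_orderOf_eq_one]
    · rw [show n - 3 = m + 1 by omega, mul_comm t, pow_mul, ← hζ, ht]

end Cfsg.Agent.Blackburn23
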