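import Cfsg.Agent.Lib.Transfer.ClassTwo
import Cfsg.Agent.Lib.Basics.Frattini
import Cfsg.Agent.Lib.OddLocal.RankTwoOmega
import Cfsg.Agent.Lib.Metacyclic.Theory
import Cfsg.Agent.Lib.OddLocal.MetacyclicAction
import Cfsg.Agent.S0638
import Cfsg.Agent.S0639

/-!
# Two-generated powerful `p`-groups and `p`-groups whose elements of order `p` are central
-/

set_option autoImplicit false
set_option linter.style.haveILetI false
set_option linter.unusedSectionVars false
set_option linter.unusedVariables false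

namespace Cfsg.Agent.Blackburn23

open Subgroup Cfsg Cfsg.Agent
open scoped commutatorElement

universe u

variable {C : Type u} [Group C] [Finite C] {p : ℕ} [hp : Fact p.Prime]

/-- The subgroup generated by the `p ^ i`-th powers. -/
def U (p : ℕ) (i : ℕ) (C : Type*) [Group C] : Subgroup C := closure (Set.range fun x : C => x ^ p ^ i)

theorem pow_mem_U (x : C) (i : ℕ) : x ^ p ^ i ∈ U p i C := subset_closure ⟨x, rfl⟩

theorem pow_mem_U_one (x : C) : x ^ p ∈ U p 1 C := by simpa using pow_mem_U (p := p) x 1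

instance U_normal (i : ℕ) : (U p i C).Normal := by
  refine ⟨fun n hn g => ?_⟩
  have h : U p i C ≤ (U p i C).comap (MulAut.conj g).toMonoidHom := by
    refine (closure_le _).mpr ?_
    rintro _ ⟨x, rfl⟩
    show g * x ^ p ^ i * g⁻¹ ∈ U p i C
    rw [← conj_pow]
    exact pow_mem_U _ i
  exact h hn

theorem U_succ_le (i : ℕ) : U p (i + 1) C ≤ U p i C := (closure_le _).mpr (by
  rintro _ ⟨x, rfl⟩
  show x ^ p ^ (i + 1) ∈ U p i C
  rw [pow_succ', pow_mul]
  exact pow_mem_U _ i)

theorem U_one_le_frattini (hC : IsPGroup p C) : U p 1 C ≤ frattini C := (closure_le _).mpr (by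
  rintro _ ⟨x, rfl⟩
  simpa using Basics.pow_mem_frattini hC x)

theorem inl_mem {G : Type*} [Group G] (a b : G) : a ∈ closure ({a, b} : Set G) := Subgroup.subset_closure (Set.mem_insert _ _)

theorem inr_mem {G : Type*} [Group G] (a b : G) : b ∈ closure ({a, b} : Set G) :=
  Subgroup.subset_closure (Set.mem_insert_of_mem _ rfl)

theorem dvd_choose_two (hp2 : p ≠ 2) : p ∣ p.choose 2 := by
  exact hp.out.dvd_choose_self (by norm_num) (lt_of_le_of_ne hp.out.two_le (Ne.symm hp2))

/-- In class two with commutator of order `p`, taking `p`-th powers is multiplicative. -/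
theorem mul_pow_p (hp2 : p ≠ 2) {Q : Type*} [Group Q] {a b : Q} (ha : Commute ⁅b, a⁆ a) (hb : Commute ⁅b, a⁆ b)
    (h1 : ⁅b, a⁆ ^ p = 1) : (a * b) ^ p = a ^ p * b ^ p := by
  rw [Transfer.mul_pow_of_commute ha hb]
  obtain ⟨k, hk⟩ := dvd_choose_two hp2
  rw [hk, pow_mul, h1, one_pow, mul_one]

theorem pow_p_commute {Q : Type*} [Group Q] {a b : Q} (ha : Commute a ⁅a, b⁆) (h1 : ⁅a, b⁆ ^ p = 1) :
    Commute (a ^ p) b := by
  rw [← commutatorElement_eq_one_iff_commute, Transfer.commutator_pow_left ha, h1]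

/-- A normal cyclic subgroup of order dividing `p` of a `p`-group is central. -/
theorem central_of_normal_prime {Q : Type*} [Group Q] [Finite Q] (hQ : IsPGroup p Q) {d : Q} (hd : d ^ p = 1)
    [hn : (zpowers d).Normal] : d ∈ center Q := by
  by_cases hd1 : d = 1
  · exact hd1 ▸ one_mem _
  obtain ⟨z, hz, hzc, hz1⟩ := OddLocal.exists_mem_center_ne_one_of_normal hQ (zpowers d)
    (by rw [Ne, zpowers_eq_bot]; exact hd1)
  have ho : orderOf d = p := orderOf_eq_prime hd hd1
  obtain ⟨i, rfl⟩ := mem_zpowers_iff.mp hz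
  have hi : ¬ (p : ℤ) ∣ i := fun h => hz1 (by
    rwa [← orderOf_dvd_iff_zpow_eq_one, ho])
  obtain ⟨u, v, huv⟩ := ((Nat.prime_iff_prime_int.mp hp.out).coprime_iff_not_dvd.mpr hi)
  have : d = (d ^ i) ^ v := by
    calc d = d ^ (u * p + v * i) := by rw [huv, zpow_one]
      _ = (d ^ i) ^ v := by
        rw [zpow_add, mul_comm u, zpow_mul, zpow_natCast, hd, one_zpow, one_mul, mul_comm v, zpow_mul]
  rw [this]
  exact zpow_mem hzc v

section Cyclic

variable (hp2 : p ≠ 2) (hC : IsPGroup p C) {c : C} (hD : _root_.commutator C = zpowers c)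
include hD

theorem normal_zpow (m : ℤ) : (zpowers (c ^ m)).Normal := by
  refine ⟨fun n hn g => ?_⟩
  obtain ⟨k, rfl⟩ := mem_zpowers_iff.mp hn
  have h : g * c * g⁻¹ ∈ zpowers c := hD ▸ (inferInstance : (_root_.commutator C).Normal).conj_mem c
    (hD ▸ mem_zpowers c) g
  obtain ⟨r, hr⟩ := mem_zpowers_iff.mp h
  rw [← conj_zpow, ← conj_zpow, ← hr]
  exact mem_zpowers_iff.mpr ⟨r * k, by rw [← zpow_mul, ← zpow_mul, ← zpow_mul]; ring_nf⟩

include hC in
/-- Conjugation fixes the generator of the derived subgroup modulo its `p`-th powers. -/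
theorem conj_c (g : C) : ∃ k : ℤ, g * c * g⁻¹ = c ^ (1 + p * k) := by
  haveI := normal_zpow hD (p : ℤ)
  set π := QuotientGroup.mk' (zpowers (c ^ (p : ℤ)))
  haveI : (zpowers (π c)).Normal := by
    rw [← MonoidHom.map_zpowers, ← hD]
    exact Normal.map inferInstance _ (QuotientGroup.mk'_surjective _)
  have hd : π c ^ p = 1 := by
    rw [← map_pow]
    exact (QuotientGroup.eq_one_iff _).mpr (by rw [← zpow_natCast]; exact mem_zpowers _)
  have hc := mem_center_iff.mp (central_of_normal_prime (hC.to_quotient _) hd) (π g)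
  have h1 : c⁻¹ * (g * c * g⁻¹) ∈ zpowers (c ^ (p : ℤ)) := (QuotientGroup.eq_one_iff _).mp (by
    show π (c⁻¹ * (g * c * g⁻¹)) = 1
    rw [map_mul, map_mul, map_mul, map_inv, map_inv, hc]; group)
  obtain ⟨k, hk⟩ := mem_zpowers_iff.mp h1
  exact ⟨k, by rw [zpow_add, zpow_one, zpow_mul, hk]; group⟩

include hC hp2 in
theorem key {a b : C} {m : ℤ} (h : ⁅a, b⁆ ∈ zpowers (c ^ m)) :
    (a ^ p * b ^ p)⁻¹ * (a * b) ^ p ∈ zpowers (c ^ (m * p)) ∧ ⁅a ^ p, b⁆ ∈ zpowers (c ^ (m * p)) := by
  haveI := normal_zpow hD (m * p)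
  set π := QuotientGroup.mk' (zpowers (c ^ (m * p)))
  have hcen : ∀ x ∈ zpowers (c ^ m), ∀ g : C, Commute (π x) (π g) ∧ π x ^ p = 1 := by
    intro x hx g
    obtain ⟨j, rfl⟩ := mem_zpowers_iff.mp hx
    have hone : ∀ e : ℤ, π (c ^ (m * p * e)) = 1 := fun e =>
      (QuotientGroup.eq_one_iff (c ^ (m * p * e))).mpr (mem_zpowers_iff.mpr ⟨e, (zpow_mul c (m * (p : ℤ)) e).symm⟩)
    refine ⟨?_, ?_⟩
    · obtain ⟨k, hk⟩ := conj_c hC hD g
      have e : g * (c ^ m) ^ j * g⁻¹ = (c ^ m) ^ j * c ^ (m * p * (k * j)) := by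
        rw [← zpow_mul, ← conj_zpow, hk, ← zpow_mul, ← zpow_add]
        ring_nf
      have e2 : π g * π ((c ^ m) ^ j) * (π g)⁻¹ = π ((c ^ m) ^ j) := by
        rw [← map_inv, ← map_mul, ← map_mul, e, map_mul, hone, mul_one]
      exact (mul_inv_eq_iff_eq_mul.mp e2).symm
    · rw [← map_pow, ← zpow_natCast, ← zpow_mul, ← zpow_mul, show m * (j * p) = m * p * j by ring]
      exact hone j
  have hba : ⁅b, a⁆ ∈ zpowers (c ^ m) := by
    rw [← commutatorElement_inv]; exact inv_mem h
  refine ⟨(QuotientGroup.eq_one_iff _).mp ?_, (QuotientGroup.eq_one_iff _).mp ?_⟩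
  · show π ((a ^ p * b ^ p)⁻¹ * (a * b) ^ p) = 1
    rw [map_mul, map_inv, map_mul, map_pow, map_pow, map_pow, map_mul, mul_pow_p hp2, inv_mul_cancel]
    · rw [← map_commutatorElement]; exact (hcen _ hba a).1
    · rw [← map_commutatorElement]; exact (hcen _ hba b).1
    · rw [← map_commutatorElement]; exact (hcen _ hba b).2
  · show π ⁅a ^ p, b⁆ = 1
    rw [map_commutatorElement, map_pow, commutatorElement_eq_one_iff_commute]
    refine pow_p_commute ?_ ?_
    · rw [← map_commutatorElement]; exact (hcen _ h a).1.symm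
    · rw [← map_commutatorElement]; exact (hcen _ h b).2

include hC hp2 in
theorem key_pow {a b : C} {m : ℤ} (h : ⁅a, b⁆ ∈ zpowers (c ^ m)) (i : ℕ) :
    (a ^ p ^ i * b ^ p ^ i)⁻¹ * (a * b) ^ p ^ i ∈ zpowers (c ^ (m * p ^ i)) ∧
      ⁅a ^ p ^ i, b⁆ ∈ zpowers (c ^ (m * p ^ i)) := by
  induction i with
  | zero => simp [h]
  | succ i ih =>
    obtain ⟨h1, h2⟩ := ih
    rw [show m * (p : ℤ) ^ (i + 1) = m * p ^ i * p by ring, pow_succ, pow_mul, pow_mul, pow_mul]
    refine ⟨?_, (key hp2 hC hD h2).2⟩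
    set a' := a ^ p ^ i
    set b' := b ^ p ^ i
    set d := (a' * b')⁻¹ * (a * b) ^ p ^ i with hd
    haveI := normal_zpow hD (m * p ^ i)
    haveI := normal_zpow hD (m * p ^ i * p)
    have hab' : ⁅a', b'⁆ ∈ zpowers (c ^ (m * p ^ i)) := by
      refine (QuotientGroup.eq_one_iff _).mp ?_
      show QuotientGroup.mk' _ ⁅a', b'⁆ = 1
      rw [map_commutatorElement, map_pow _ b, commutatorElement_eq_one_iff_commute]
      refine Commute.pow_right ?_ _
      rw [← commutatorElement_eq_one_iff_commute, ← map_commutatorElement]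
      exact (QuotientGroup.eq_one_iff _).mpr h2
    have hd' : ⁅a' * b', d⁆ ∈ zpowers (c ^ (m * p ^ i)) := by
      rw [commutatorElement_def, mul_assoc, mul_assoc, ← mul_assoc (a' * b'), ← mul_assoc _ _ d⁻¹]
      exact mul_mem ((inferInstance : (zpowers (c ^ (m * p ^ i))).Normal).conj_mem d h1 (a' * b'))
        (inv_mem h1)
    have k1 := (key hp2 hC hD hd').1
    have k2 := (key hp2 hC hD hab').1
    have k3 : d ^ p ∈ zpowers (c ^ (m * p ^ i * p)) := by
      obtain ⟨j, hj⟩ := mem_zpowers_iff.mp h1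
      refine mem_zpowers_iff.mpr ⟨j, ?_⟩
      rw [← hj, ← zpow_natCast (((c ^ (m * p ^ i)) ^ j)) p, ← zpow_mul, ← zpow_mul, ← zpow_mul]
      ring_nf
    rw [show (a * b) ^ p ^ i = a' * b' * d by rw [hd, mul_inv_cancel_left]]
    set π := QuotientGroup.mk' (zpowers (c ^ (m * p ^ i * p)))
    have e : ∀ x, x ∈ zpowers (c ^ (m * p ^ i * p)) → π x = 1 := fun x hx => (QuotientGroup.eq_one_iff x).mpr hx
    refine (QuotientGroup.eq_one_iff _).mp ?_
    show π ((a' ^ p * b' ^ p)⁻¹ * (a' * b' * d) ^ p) = 1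
    have e1 := e _ k1
    have e2 := e _ k2
    rw [map_mul, map_inv, inv_mul_eq_one, map_mul _ ((a' * b') ^ p), e _ k3, mul_one] at e1
    rw [map_mul, map_inv, inv_mul_eq_one] at e2
    rw [map_mul, map_inv, ← e1, e2, inv_mul_cancel]

include hC hp2 in
theorem mem_U_one_iff {x : C} (hx : x ∈ U p 1 C) : ∃ h : C, ∃ d ∈ zpowers (c ^ (p : ℤ)), x = h ^ p * d := by
  induction hx using closure_induction with
  | mem x hx =>
    obtain ⟨h, rfl⟩ := hx
    exact ⟨h, 1, one_mem _, by simp⟩
  | one => exact ⟨1, 1, one_mem _, by simp⟩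
  | mul x y _ _ ihx ihy =>
    obtain ⟨h₁, d₁, hd₁, rfl⟩ := ihx
    obtain ⟨h₂, d₂, hd₂, rfl⟩ := ihy
    haveI := normal_zpow hD (p : ℤ)
    have hm : ⁅h₁, h₂⁆ ∈ zpowers (c ^ (1 : ℤ)) := by
      rw [zpow_one, ← hD]; exact commutator_mem_commutator (mem_top _) (mem_top _)
    have hk := (key hp2 hC hD hm).1
    rw [one_mul] at hk
    refine ⟨h₁ * h₂, ((h₁ * h₂) ^ p)⁻¹ * (h₁ ^ p * d₁ * (h₂ ^ p * d₂)), ?_, by group⟩
    have : ((h₁ * h₂) ^ p)⁻¹ * (h₁ ^ p * d₁ * (h₂ ^ p * d₂)) =
        ((h₁ ^ p * h₂ ^ p)⁻¹ * (h₁ * h₂) ^ p)⁻¹ * ((h₂ ^ p)⁻¹ * d₁ * h₂ ^ p) * d₂ := by group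
    rw [this]
    refine mul_mem (mul_mem (inv_mem hk) ?_) hd₂
    exact (inferInstance : (zpowers (c ^ (p : ℤ))).Normal).conj_mem' d₁ hd₁ _
  | inv x _ ih =>
    obtain ⟨h, d, hd, rfl⟩ := ih
    haveI := normal_zpow hD (p : ℤ)
    refine ⟨h⁻¹, h ^ p * d⁻¹ * (h ^ p)⁻¹, ?_, by rw [inv_pow]; group⟩
    exact (inferInstance : (zpowers (c ^ (p : ℤ))).Normal).conj_mem _ (inv_mem hd) _

end Cyclic

/-- A two-generated powerful group has cyclic derived subgroup. -/
theorem derived_cyclic (hp2 : p ≠ 2) (hC : IsPGroup p C) {a b : C} (hgen : closure ({a, b} : Set C) = ⊤)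
    (hle : _root_.commutator C ≤ U p 1 C) : _root_.commutator C = zpowers ⁅a, b⁆ := by
  haveI := hC.isNilpotent
  set D := _root_.commutator C with hDdef
  set R : Subgroup C := ⁅D, (⊤ : Subgroup C)⁆ with hR
  haveI hΦn : ((frattini D).map D.subtype).Normal := inferInstance
  set Φ : Subgroup C := (frattini D).map D.subtype with hΦ
  have hRD : R ≤ D := commutator_le_left _ _
  -- modulo `Φ ⊔ ⁅R, C⁆` the subgroup generated by the `p`-th powers is central
  have hstep : R ≤ Φ ⊔ ⁅R, (⊤ : Subgroup C)⁆ := by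
    set N := Φ ⊔ ⁅R, (⊤ : Subgroup C)⁆
    set π := QuotientGroup.mk' N
    have hRc : ∀ r ∈ R, ∀ g, Commute (π r) (π g) := fun r hr g => by
      rw [← commutatorElement_eq_one_iff_commute, ← map_commutatorElement]
      exact (QuotientGroup.eq_one_iff _).mpr (mem_sup_right (commutator_mem_commutator hr (mem_top g)))
    have hDp : ∀ d ∈ D, π d ^ p = 1 := fun d hd => by
      rw [← map_pow]
      exact (QuotientGroup.eq_one_iff _).mpr (mem_sup_left ⟨⟨d, hd⟩ ^ p, Basics.pow_mem_frattini (hC.to_subgroup D) _, rfl⟩)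
    have hU : ∀ x : C, ∀ g : C, Commute (π (x ^ p)) (π g) := fun x g => by
      rw [← commutatorElement_eq_one_iff_commute, map_pow]
      have hex : ⁅π x, π g⁆ = π ⁅x, g⁆ := (map_commutatorElement _ _ _).symm
      have hxgD : ⁅x, g⁆ ∈ D := commutator_mem_commutator (mem_top _) (mem_top _)
      have hf : ∀ k, Commute ⁅⁅π x, π g⁆, π x⁆ (π k) := fun k => by
        rw [hex, ← map_commutatorElement]
        exact hRc _ (commutator_mem_commutator hxgD (mem_top x)) k
      -- compute with `⁅π x, π g⁆ = e`, `e ^ p = 1`, `⁅e, π x⁆` central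
      set e := ⁅π x, π g⁆ with he
      set y := π x with hy
      set w := π g with hw
      have he1 : e ^ p = 1 := by rw [hex]; exact hDp _ hxgD
      set f := ⁅e, y⁆ with hfdef
      have hfy : Commute f y := hf x
      have hfe : Commute f e := by rw [hex]; exact hf _
      have hfp : f ^ p = 1 := by
        rw [hfdef, ← Transfer.commutator_pow_left hfe.symm, he1, commutatorElement_one_left]
      have h1 : w * y * w⁻¹ = e⁻¹ * y := by rw [he, commutatorElement_def]; group
      have h2 : w * y ^ p * w⁻¹ = y ^ p := by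
        rw [← conj_pow, h1, mul_pow_p hp2, inv_pow, he1, inv_one, one_mul]
        · rw [show ⁅y, e⁻¹⁆ = e⁻¹ * f * e by rw [hfdef, commutatorElement_def, commutatorElement_def]; group,
            mul_assoc, hfe.eq, inv_mul_cancel_left]
          exact hfe.inv_right
        · rw [show ⁅y, e⁻¹⁆ = e⁻¹ * f * e by rw [hfdef, commutatorElement_def, commutatorElement_def]; group,
            mul_assoc, hfe.eq, inv_mul_cancel_left]
          exact hfy
        · rw [show ⁅y, e⁻¹⁆ = e⁻¹ * f * e by rw [hfdef, commutatorElement_def, commutatorElement_def]; group,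
            mul_assoc, hfe.eq, inv_mul_cancel_left]
          exact hfp
      rw [commutatorElement_eq_one_iff_commute]
      exact (mul_inv_eq_iff_eq_mul.mp h2).symm
    refine commutator_le.mpr fun d hd g _ => (QuotientGroup.eq_one_iff _).mp ?_
    show π ⁅d, g⁆ = 1
    rw [map_commutatorElement, commutatorElement_eq_one_iff_commute]
    have : U p 1 C ≤ (centralizer {π g}).comap π := (closure_le _).mpr (by
      rintro _ ⟨x, rfl⟩
      show π (x ^ p ^ 1) ∈ centralizer {π g}
      rw [pow_one, mem_centralizer_singleton_iff]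
      exact hU x g)
    exact mem_centralizer_singleton_iff.mp (this (hle hd))
  have hRΦ : R ≤ Φ := by
    suffices h : ∀ n, R ≤ Φ ⊔ (⊤ : Subgroup C).lowerCentralSeries n by
      obtain ⟨n, hn⟩ := Subgroup.nilpotent_iff_lowerCentralSeries.mp (inferInstance : Group.IsNilpotent C)
      simpa [hn] using h n
    intro n
    induction n with
    | zero => rw [Subgroup.lowerCentralSeries_zero]; simp
    | succ n ih =>
      refine hstep.trans (sup_le le_sup_left ((commutator_mono ih le_rfl).trans ?_))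
      refine commutator_le.mpr fun x hx g _ => (QuotientGroup.eq_one_iff _).mp ?_
      set π := QuotientGroup.mk' (Φ ⊔ (⊤ : Subgroup C).lowerCentralSeries (n + 1))
      obtain ⟨u, hu, l, hl, rfl⟩ := mem_sup_of_normal_left.mp hx
      show π ⁅u * l, g⁆ = 1
      have e1 : π u = 1 := (QuotientGroup.eq_one_iff u).mpr (mem_sup_left hu)
      have e2 : π ⁅l, g⁆ = 1 := (QuotientGroup.eq_one_iff _).mpr (mem_sup_right (by
        rw [Subgroup.lowerCentralSeries_succ]; exact commutator_mem_commutator hl (mem_top g)))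
      rw [map_commutatorElement] at e2
      rw [map_commutatorElement, map_mul, e1, one_mul, e2]
  -- the derived subgroup is generated by `⁅a, b⁆` modulo its Frattini subgroup
  have habD : ⁅a, b⁆ ∈ D := commutator_mem_commutator (mem_top _) (mem_top _)
  refine le_antisymm ?_ (zpowers_le.mpr habD)
  haveI hn : (zpowers ⁅a, b⁆ ⊔ Φ).Normal := by
    refine ⟨fun x hx g => ?_⟩
    have hxD : x ∈ D := (sup_le (zpowers_le.mpr habD) (map_subtype_le _)) hx
    have : g * x * g⁻¹ = ⁅x, g⁆⁻¹ * x := by rw [commutatorElement_def]; group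
    rw [this]
    exact mul_mem (inv_mem (mem_sup_right (hRΦ (commutator_mem_commutator hxD (mem_top g))))) hx
  set π := QuotientGroup.mk' (zpowers ⁅a, b⁆ ⊔ Φ)
  have hab : Commute (π a) (π b) := by
    rw [← commutatorElement_eq_one_iff_commute, ← map_commutatorElement]
    exact (QuotientGroup.eq_one_iff _).mpr (mem_sup_left (mem_zpowers _))
  have hall : ∀ x y : C, Commute (π x) (π y) := by
    have key : ∀ x, ∀ s ∈ ({a, b} : Set C), Commute (π x) (π s) := by
      intro x s hs
      have : closure ({a, b} : Set C) ≤ (centralizer {π s}).comap π := (closure_le _).mpr (by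
        rintro t (rfl | rfl) <;> rcases hs with rfl | rfl <;>
          first
            | exact mem_centralizer_singleton_iff.mpr rfl
            | exact mem_centralizer_singleton_iff.mpr hab
            | exact mem_centralizer_singleton_iff.mpr hab.symm)
      exact mem_centralizer_singleton_iff.mp (this (hgen ▸ mem_top x))
    intro x y
    have : closure ({a, b} : Set C) ≤ (centralizer {π x}).comap π := (closure_le _).mpr fun s hs =>
      mem_centralizer_singleton_iff.mpr (key x s hs).symm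
    exact (mem_centralizer_singleton_iff.mp (this (hgen ▸ mem_top y))).symm
  have hDle : D ≤ zpowers ⁅a, b⁆ ⊔ Φ := by
    rw [hDdef, _root_.commutator_def, commutator_le]
    intro x _ y _
    refine (QuotientGroup.eq_one_iff _).mp ?_
    show π ⁅x, y⁆ = 1
    rw [map_commutatorElement]; exact commutatorElement_eq_one_iff_commute.mpr (hall x y)
  have htop : (zpowers (⟨⁅a, b⁆, habD⟩ : D)) ⊔ frattini D = ⊤ := by
    refine map_injective D.subtype_injective ?_
    rw [Subgroup.map_sup, MonoidHom.map_zpowers, ← MonoidHom.range_eq_map, range_subtype]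
    exact le_antisymm (sup_le (zpowers_le.mpr habD) (map_subtype_le _)) hDle
  intro d hd
  have h1 : (⟨d, hd⟩ : D) ∈ zpowers (⟨⁅a, b⁆, habD⟩ : D) := frattini_nongenerating htop ▸ mem_top _
  obtain ⟨i, hi⟩ := mem_zpowers_iff.mp h1
  exact mem_zpowers_iff.mpr ⟨i, congrArg Subtype.val hi⟩

/-- A two-generated powerful group is metacyclic. -/
theorem metacyclic_of_powerful (hp2 : p ≠ 2) (hC : IsPGroup p C) {a b : C} (hgen : closure ({a, b} : Set C) = ⊤)
    (hle : _root_.commutator C ≤ U p 1 C) : IsMetacyclic C := by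
  haveI := hC.isNilpotent
  have hD := derived_cyclic hp2 hC hgen hle
  set c := ⁅a, b⁆
  by_cases hc1 : c = 1
  · exact S0639.isMetacyclic_of_two (x := a) (y := b) (by rw [hD, hc1, zpowers_one_eq_bot]; exact bot_le) hgen
  haveI : Nonempty {x : C // c ∈ zpowers x} := ⟨⟨c, mem_zpowers c⟩⟩
  obtain ⟨⟨x, hx⟩, hmax⟩ := Finite.exists_max (fun x : {x : C // c ∈ zpowers x} => orderOf (x : C))
  have hxU : x ∉ U p 1 C := by
    intro h
    obtain ⟨g, d, hd, rfl⟩ := mem_U_one_iff hp2 hC hD h
    obtain ⟨k, hk⟩ := mem_zpowers_iff.mp hx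
    obtain ⟨l, hl⟩ := mem_zpowers_iff.mp hd
    set x := g ^ p * d
    have hd' : d = x ^ (k * p * l) := by rw [zpow_mul, zpow_mul, hk, ← hl]
    have hgp : g ^ p = x ^ (1 - k * p * l) := by
      rw [zpow_sub, zpow_one, ← hd']; exact eq_mul_inv_of_mul_eq rfl
    -- `x` is a power of `g ^ p`
    have hxg : x ∈ zpowers (g ^ p) := by
      obtain ⟨e, he⟩ := IsPGroup.iff_orderOf.mp hC x
      have hco : IsCoprime (1 - k * p * l) ((p : ℤ) ^ e) := by
        refine IsCoprime.pow_right ⟨1, k * l, by ring⟩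
      obtain ⟨u, v, huv⟩ := hco
      refine mem_zpowers_iff.mpr ⟨u, ?_⟩
      rw [hgp, ← zpow_mul]
      have h1 : x ^ ((p : ℤ) ^ e) = 1 := by
        rw [← Nat.cast_pow, zpow_natCast, ← he, pow_orderOf_eq_one]
      calc x ^ ((1 - k * p * l) * u) = x ^ ((1 - k * p * l) * u) * x ^ ((p : ℤ) ^ e * v) := by
              rw [zpow_mul x ((p : ℤ) ^ e), h1, one_zpow, mul_one]
        _ = x ^ (1 : ℤ) := by rw [← zpow_add]; congr 1; linear_combination huv
        _ = x := zpow_one x
    have hcg : c ∈ zpowers g := (zpowers_le.mpr (zpowers_le.mpr (pow_mem (mem_zpowers g) p) hxg)) hx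
    have h2 : orderOf x ≤ orderOf (g ^ p) := by
      rw [← Nat.card_zpowers, ← Nat.card_zpowers]
      exact card_le_of_le (zpowers_le.mpr hxg)
    have h3 : orderOf g ≤ orderOf x := hmax ⟨g, hcg⟩
    have hg1 : g ≠ 1 := fun e => hc1 (by rw [e, zpowers_one_eq_bot, mem_bot] at hcg; exact hcg)
    obtain ⟨e, he⟩ := IsPGroup.iff_orderOf.mp hC g
    have he0 : e ≠ 0 := fun h0 => hg1 (orderOf_eq_one_iff.mp (by rw [he, h0, pow_zero]))
    have h4 : orderOf (g ^ p) = orderOf g / p := by
      rw [orderOf_pow' g hp.out.ne_zero, he, Nat.gcd_eq_right (dvd_pow_self p he0)]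
    have h5 : orderOf g / p < orderOf g := Nat.div_lt_self (orderOf_pos g) hp.out.one_lt
    omega
  set π := QuotientGroup.mk' (U p 1 C) with hπ
  have hcomm : ∀ u v : C, Commute (π u) (π v) := fun u v => by
    rw [← commutatorElement_eq_one_iff_commute, ← map_commutatorElement]
    exact (QuotientGroup.eq_one_iff _).mpr (hle (commutator_mem_commutator (mem_top _) (mem_top _)))
  have hrep : ∃ i j : ℤ, π x = π a ^ i * π b ^ j := by
    suffices hall : ∀ w ∈ closure ({a, b} : Set C), ∃ i j : ℤ, π w = π a ^ i * π b ^ j from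
      hall x (hgen ▸ mem_top x)
    intro w h
    induction h using closure_induction with
    | mem t ht => rcases ht with rfl | rfl
                  · exact ⟨1, 0, by simp⟩
                  · exact ⟨0, 1, by simp⟩
    | one => exact ⟨0, 0, by simp⟩
    | mul u v _ _ hu hv =>
      obtain ⟨i, j, hu⟩ := hu
      obtain ⟨i', j', hv⟩ := hv
      refine ⟨i + i', j + j', ?_⟩
      rw [map_mul, hu, hv, zpow_add, zpow_add,
        mul_assoc (π a ^ i), ← mul_assoc (π b ^ j), ← (((hcomm a b).zpow_left i').zpow_right j).eq]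
      simp only [mul_assoc]
    | inv u _ hu =>
      obtain ⟨i, j, hu⟩ := hu
      exact ⟨-i, -j, by rw [map_inv, hu, mul_inv_rev, zpow_neg, zpow_neg,
        (((hcomm a b).zpow_left i).zpow_right j).inv_inv.symm.eq]⟩
  obtain ⟨i, j, hij⟩ := hrep
  have hexp : ∀ u, π u ^ p = 1 := fun u => by
    rw [← map_pow]; exact (QuotientGroup.eq_one_iff _).mpr (pow_mem_U_one u)
  have hcD : _root_.commutator C ≤ zpowers x := by rw [hD]; exact zpowers_le.mpr hx
  have finish : ∀ (s t : C) (i j : ℤ), ({a, b} : Set C) ⊆ {s, t} → π x = π s ^ i * π t ^ j → ¬ (p : ℤ) ∣ i →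
      IsMetacyclic C := by
    intro s t i j hsub hij hi
    refine S0639.isMetacyclic_of_two (y := t) hcD (frattini_nongenerating (eq_top_iff.mpr ?_))
    rw [← hgen]
    refine (closure_le _).mpr fun w hw => ?_
    have ht : t ∈ closure ({x, t} : Set C) ⊔ frattini C := mem_sup_left (inr_mem _ _)
    rcases hsub hw with rfl | rfl
    · obtain ⟨u, v, huv⟩ := ((Nat.prime_iff_prime_int.mp hp.out).coprime_iff_not_dvd.mpr hi)
      have e : π w = π ((x * (t ^ j)⁻¹) ^ v) := by
        rw [map_zpow, map_mul, map_inv, map_zpow, hij, mul_inv_cancel_right, ← zpow_mul]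
        calc π w = π w ^ (u * p + v * i) := by rw [huv, zpow_one]
          _ = π w ^ (i * v) := by
            rw [zpow_add, mul_comm u, zpow_mul, zpow_natCast, hexp, one_zpow, one_mul, mul_comm v]
      have h1 : ((x * (t ^ j)⁻¹) ^ v)⁻¹ * w ∈ U p 1 C := QuotientGroup.eq.mp e.symm
      have h2 := (closure ({x, t} : Set C) ⊔ frattini C).mul_mem
        (zpow_mem (mul_mem (mem_sup_left (inl_mem _ _)) (inv_mem (zpow_mem ht j))) v)
        (mem_sup_right (U_one_le_frattini hC h1))
      rwa [mul_inv_cancel_left] at h2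
    · exact ht
  by_cases hi : (p : ℤ) ∣ i
  · by_cases hj : (p : ℤ) ∣ j
    · refine absurd ?_ hxU
      obtain ⟨i', rfl⟩ := hi
      obtain ⟨j', rfl⟩ := hj
      refine (QuotientGroup.eq_one_iff x).mp ?_
      show π x = 1
      rw [hij, zpow_mul, zpow_mul, zpow_natCast, zpow_natCast, hexp, hexp, one_zpow, one_zpow, one_mul]
    · exact finish b a j i (by rintro w (rfl | rfl) <;> simp) (by rw [hij, ((hcomm a b).zpow_left i).zpow_right j |>.eq]) hj
  · exact finish a b i j subset_rfl hij hi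

theorem commutator_le_U_of_metacyclic (hC : IsPGroup p C) (hm : IsMetacyclic C) :
    _root_.commutator C ≤ U p 1 C := by
  obtain ⟨D⟩ := Metacyclic.nonempty_data hC hm
  rw [D.commutator_eq]
  refine zpowers_le.mpr ?_
  obtain ⟨k, hk⟩ := D.dvd_r
  rw [hk, mul_comm, zpow_mul, zpow_natCast]
  exact pow_mem_U_one _

theorem gens_of_metacyclic (hm : IsMetacyclic C) : ∃ a b : C, closure ({a, b} : Set C) = ⊤ := by
  obtain ⟨N, hN, hNc, hQc⟩ := hm
  obtain ⟨⟨a, haN⟩, ha⟩ := hNc.exists_generator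
  obtain ⟨bq, hb⟩ := hQc.exists_generator
  obtain ⟨b, rfl⟩ := QuotientGroup.mk'_surjective N bq
  refine ⟨a, b, eq_top_iff.mpr fun g _ => ?_⟩
  obtain ⟨j, hj⟩ := mem_zpowers_iff.mp (hb (g : C ⧸ N))
  have h1 : (b ^ j)⁻¹ * g ∈ N := QuotientGroup.eq.mp (by rw [QuotientGroup.mk_zpow]; exact hj)
  obtain ⟨i, hi⟩ := mem_zpowers_iff.mp (ha ⟨_, h1⟩)
  have hi' : a ^ i = (b ^ j)⁻¹ * g := congrArg Subtype.val hi
  rw [show g = b ^ j * a ^ i by rw [hi', mul_inv_cancel_left]]
  exact mul_mem (zpow_mem (inr_mem _ _) _) (zpow_mem (inl_mem _ _) _)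

/-- The elements of order dividing `p` when they are central. -/
def omegaC (hc : ∀ x : C, x ^ p = 1 → x ∈ center C) : Subgroup C where
  carrier := {x | x ^ p = 1}
  one_mem' := one_pow _
  mul_mem' := fun {x y} hx hy => by
    show (x * y) ^ p = 1
    rw [(show Commute x y from mem_center_iff.mp (hc y hy) x).mul_pow, hx, hy, one_mul]
  inv_mem' := fun {x} hx => by
    show x⁻¹ ^ p = 1
    rw [inv_pow, hx, inv_one]

theorem omegaC_le_center (hc : ∀ x : C, x ^ p = 1 → x ∈ center C) : omegaC hc ≤ center C := fun x hx => hc x hx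

/-- An odd `p`-group of rank at most two whose elements of order `p` are central is metacyclic. -/
theorem metacyclic_of_central (hp2 : p ≠ 2) : ∀ (n : ℕ) (C : Type u) [Group C] [Finite C], Nat.card C = n →
    IsPGroup p C → (∀ x : C, x ^ p = 1 → x ∈ center C) → PRankLE p 2 C → IsMetacyclic C := by
  intro n
  induction n using Nat.strong_induction_on with
  | _ n ih =>
  intro C _ _ hn hC hc hrk
  haveI := hC.isNilpotent
  by_cases hcyc : IsCyclic C
  · obtain ⟨a, ha⟩ := hcyc.exists_generator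
    exact S0639.isMetacyclic_of_two (x := a) (y := a) (fun g _ => ha g)
      (eq_top_iff.mpr fun g _ => zpowers_le.mpr (inl_mem _ _) (ha g))
  -- elements with `p`-th power of order `p` are central modulo elements of order `p`
  have hcomm : ∀ g h : C, (g ^ p) ^ p = 1 → ⁅h, g⁆ ^ p = 1 := by
    intro g h hg
    have hgc : ∀ k, Commute k (g ^ p) := fun k => mem_center_iff.mp (hc _ hg) k
    set g' := h * g * h⁻¹ with hg'
    have hg'p : g' ^ p = g ^ p := by rw [hg', conj_pow, (hgc h).eq, mul_inv_cancel_right]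
    set K := closure ({g, g'} : Set C) with hK
    have hKne : K ≠ ⊤ := by
      intro e
      have hle : K ≤ zpowers g ⊔ frattini C := (closure_le _).mpr (by
        rintro t (rfl | rfl)
        · exact mem_sup_left (mem_zpowers _)
        · have h2 : g' = ⁅h, g⁆ * g := by rw [hg', commutatorElement_def]; group
          rw [h2]
          exact mul_mem (mem_sup_right (Basics.commutator_le_frattini
            (commutator_mem_commutator (mem_top _) (mem_top _)))) (mem_sup_left (mem_zpowers _)))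
      rw [e, top_le_iff] at hle
      exact hcyc (isCyclic_iff_exists_zpowers_eq_top.mpr ⟨g, frattini_nongenerating hle⟩)
    have hKcard : Nat.card K < n := hn ▸ (lt_of_le_of_ne (Nat.le_of_dvd Nat.card_pos K.card_subgroup_dvd_card)
      fun e => hKne ((card_eq_iff_eq_top K).mp e))
    have hKm : IsMetacyclic K := ih _ hKcard K rfl (hC.to_subgroup K)
      (fun x hx => mem_center_iff.mpr fun y => Subtype.ext
        (mem_center_iff.mp (hc x (by rw [← SubgroupClass.coe_pow, hx, OneMemClass.coe_one])) y))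
      (fun A hA he => by
        rw [← card_map_of_injective K.subtype_injective]
        exact hrk (A.map K.subtype) (by infer_instance) (by
          rintro _ ⟨a, ha, rfl⟩
          rw [← map_pow, he a ha, map_one]))
    let gK : K := ⟨g, inl_mem _ _⟩
    let gK' : K := ⟨g', inr_mem _ _⟩
    haveI hN : (zpowers (gK ^ p)).Normal := by
      refine ⟨fun x hx y => ?_⟩
      obtain ⟨i, rfl⟩ := mem_zpowers_iff.mp hx
      have : Commute y ((gK ^ p) ^ i) := (show Commute y (gK ^ p) from Subtype.ext (hgc y).eq).zpow_right i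
      rw [this.eq, mul_inv_cancel_right]
      exact zpow_mem (mem_zpowers _) i
    set π := QuotientGroup.mk' (zpowers (gK ^ p))
    have hab : Commute (π gK) (π gK') := by
      by_cases hQc : IsCyclic (K ⧸ zpowers (gK ^ p))
      · exact (IsCyclic.commGroup (α := K ⧸ zpowers (gK ^ p))).mul_comm _ _
      · obtain ⟨hel, -⟩ := S0638.result hp2 ((hC.to_subgroup K).to_quotient _)
          (OddLocal.isMetacyclic_of_surjective π (QuotientGroup.mk'_surjective _) hKm) hQc
        have hmem : ∀ x : K, (x : C) ^ p = g ^ p → π x ∈ omegaOne p (⊤ : Subgroup (K ⧸ zpowers (gK ^ p))) :=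
          fun x hx => subset_closure ⟨mem_top _, by
            rw [← map_pow]
            exact (QuotientGroup.eq_one_iff _).mpr (by rw [show x ^ p = gK ^ p from Subtype.ext hx]; exact mem_zpowers _)⟩
        haveI := hel.1
        exact congrArg Subtype.val (mul_comm' (⟨_, hmem gK rfl⟩ : omegaOne p (⊤ : Subgroup (K ⧸ zpowers (gK ^ p))))
          ⟨_, hmem gK' hg'p⟩)
    rw [← commutatorElement_eq_one_iff_commute, ← map_commutatorElement] at hab
    obtain ⟨i, hi⟩ := mem_zpowers_iff.mp ((QuotientGroup.eq_one_iff _).mp hab)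
    have hi' : (g ^ p) ^ i = ⁅g, g'⁆ := congrArg Subtype.val hi
    have hz : ∀ k, Commute ⁅g, g'⁆ k := fun k => hi' ▸ ((hgc k).zpow_right i).symm
    have hz1 : ⁅g, g'⁆ ^ p = 1 := by
      rw [← Transfer.commutator_pow_left (hz g).symm, commutatorElement_eq_one_iff_commute]
      exact (hgc g').symm
    rw [show ⁅h, g⁆ = g' * g⁻¹ by rw [hg', commutatorElement_def]]
    have hzi : ⁅g⁻¹, g'⁆ = ⁅g, g'⁆⁻¹ := by
      rw [show ⁅g⁻¹, g'⁆ = g⁻¹ * ⁅g, g'⁆⁻¹ * g by rw [commutatorElement_def, commutatorElement_def]; group,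
        mul_assoc, ((hz g).inv_left).eq, inv_mul_cancel_left]
    rw [mul_pow_p hp2, hg'p, inv_pow, mul_inv_cancel]
    · rw [hzi]; exact (hz g').inv_left
    · rw [hzi]; exact (hz g⁻¹).inv_left
    · rw [hzi, inv_pow, hz1, inv_one]
  set E := omegaC hc with hE
  haveI hEn : E.Normal := ⟨fun e he g => by rw [mem_center_iff.mp (hc e he) g, mul_inv_cancel_right]; exact he⟩
  have hEab : IsMulCommutative E := ⟨⟨fun a b => Subtype.ext (mem_center_iff.mp (hc b b.2) a)⟩⟩
  have hE2 : Nat.card E ≤ p ^ 2 := hrk E hEab fun a ha => ha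
  set π := QuotientGroup.mk' E
  -- the quotient has the same property
  have hcQ : ∀ x : C ⧸ E, x ^ p = 1 → x ∈ center (C ⧸ E) := by
    intro x hx
    obtain ⟨g, rfl⟩ := QuotientGroup.mk'_surjective E x
    refine mem_center_iff.mpr fun y => ?_
    obtain ⟨h, rfl⟩ := QuotientGroup.mk'_surjective E y
    have hg : (g ^ p) ^ p = 1 := (QuotientGroup.eq_one_iff _).mp (by rw [← map_pow] at hx; exact hx)
    refine (commutatorElement_eq_one_iff_commute (g₁ := π h) (g₂ := π g)).mp ?_
    rw [← map_commutatorElement]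
    exact (QuotientGroup.eq_one_iff _).mpr (hcomm g h hg)
  let W : Subgroup C :=
    { carrier := {g | (g ^ p) ^ p = 1}
      one_mem' := by simp
      mul_mem' := fun {g h} hg hh => by
        have hz : ∀ k, Commute ⁅h, g⁆ k := fun k => (mem_center_iff.mp (hc _ (hcomm g h hg)) k).symm
        show ((g * h) ^ p) ^ p = 1
        rw [mul_pow_p hp2 (hz g) (hz h) (hcomm g h hg),
          (show Commute (g ^ p) (h ^ p) from mem_center_iff.mp (hc _ hh) _).mul_pow, hg, hh, one_mul]
      inv_mem' := fun {g} hg => by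
        show (g⁻¹ ^ p) ^ p = 1
        rw [inv_pow, inv_pow, hg, inv_one] }
  let φ : W →* E :=
    { toFun := fun g => ⟨(g : C) ^ p, g.2⟩
      map_one' := Subtype.ext (one_pow _)
      map_mul' := fun g h => Subtype.ext (by
        have hz : ∀ k, Commute ⁅(h : C), (g : C)⁆ k := fun k =>
          (mem_center_iff.mp (hc _ (hcomm g h g.2)) k).symm
        exact mul_pow_p hp2 (hz g) (hz h) (hcomm g h g.2)) }
  have hEW : E ≤ W := fun e he => by show (e ^ p) ^ p = 1; rw [show e ^ p = 1 from he, one_pow]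
  have hker : φ.ker = E.subgroupOf W := by
    ext g
    rw [MonoidHom.mem_ker, mem_subgroupOf]
    exact ⟨fun h => congrArg Subtype.val h, fun h => Subtype.ext h⟩
  have hrange : ∀ X : Subgroup (C ⧸ E), (∀ x ∈ X, x ^ p = 1) → Nat.card X ≤ Nat.card φ.range := by
    intro X hX
    have hle : X ≤ W.map π := fun x hx => by
      obtain ⟨g, rfl⟩ := QuotientGroup.mk'_surjective E x
      exact mem_map_of_mem π (show (g ^ p) ^ p = 1 from
        (QuotientGroup.eq_one_iff _).mp (by have := hX _ hx; rw [← map_pow] at this; exact this))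
    refine (card_le_of_le hle).trans (le_of_eq ?_)
    have hk : (π.comp W.subtype).ker = φ.ker := by
      rw [hker]; ext g; rw [MonoidHom.mem_ker, mem_subgroupOf]; exact QuotientGroup.eq_one_iff (g : C)
    have e : W.map π = (π.comp W.subtype).range := by rw [MonoidHom.range_comp, range_subtype]
    rw [e, ← Nat.card_congr (QuotientGroup.quotientKerEquivRange φ).toEquiv,
      ← Nat.card_congr (QuotientGroup.quotientKerEquivRange (π.comp W.subtype)).toEquiv]
    exact Nat.card_congr (QuotientGroup.quotientMulEquivOfEq hk).toEquiv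
  have hrkQ : PRankLE p 2 (C ⧸ E) := fun A hA he =>
    ((hrange A he).trans (Subgroup.card_le_card_group _)).trans hE2
  have hE1 : E ≠ ⊥ := by
    intro e
    haveI : Nontrivial C := by
      by_contra hnt
      haveI := not_nontrivial_iff_subsingleton.mp hnt
      exact hcyc inferInstance
    obtain ⟨x, hx⟩ := exists_prime_orderOf_dvd_card' (G := C) p (by
      obtain ⟨k, hk, hk'⟩ := hC.nontrivial_iff_card.mp ‹_›
      exact hk' ▸ dvd_pow_self p hk.ne')
    have : x ∈ E := by show x ^ p = 1; rw [← hx, pow_orderOf_eq_one]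
    rw [e, mem_bot] at this
    rw [this, orderOf_one] at hx
    exact hp.out.ne_one hx.symm
  have hQm : IsMetacyclic (C ⧸ E) :=
    ih _ (hn ▸ Basics.card_quotient_lt hE1) (C ⧸ E) rfl (hC.to_quotient E) hcQ hrkQ
  obtain ⟨aQ, bQ, hgenQ⟩ := gens_of_metacyclic hQm
  by_cases hQc : IsCyclic (C ⧸ E)
  · -- abelian
    obtain ⟨aq, haq⟩ := hQc.exists_generator
    obtain ⟨a, rfl⟩ := QuotientGroup.mk'_surjective E aq
    have hrep : ∀ g : C, ∃ i : ℤ, (a ^ i)⁻¹ * g ∈ E := fun g => by
      obtain ⟨i, hi⟩ := mem_zpowers_iff.mp (haq (π g))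
      exact ⟨i, QuotientGroup.eq.mp (by rw [QuotientGroup.mk_zpow]; exact hi)⟩
    have hab : _root_.commutator C = ⊥ := by
      rw [_root_.commutator_def, commutator_eq_bot_iff_le_centralizer]
      intro g _
      refine mem_centralizer_iff.mpr fun h _ => ?_
      obtain ⟨i, hi⟩ := hrep g
      obtain ⟨j, hj⟩ := hrep h
      obtain ⟨e, he, rfl⟩ : ∃ e ∈ center C, g = a ^ i * e := ⟨_, hc _ hi, by group⟩
      obtain ⟨f, hf, rfl⟩ : ∃ f ∈ center C, h = a ^ j * f := ⟨_, hc _ hj, by group⟩
      have hfc := mem_center_iff.mp hf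
      have hec := mem_center_iff.mp he
      calc a ^ j * f * (a ^ i * e) = a ^ j * (f * a ^ i) * e := by simp only [mul_assoc]
        _ = a ^ i * a ^ j * (f * e) := by rw [← hfc, ← zpow_mul_comm]; simp only [mul_assoc]
        _ = a ^ i * (a ^ j * e) * f := by rw [← hfc e]; simp only [mul_assoc]
        _ = a ^ i * e * (a ^ j * f) := by rw [hec (a ^ j)]; simp only [mul_assoc]
    obtain ⟨e₁, he₁E, he₁a, he₁⟩ : ∃ e₁, e₁ ∈ E ∧ e₁ ∈ closure ({a, e₁} : Set C) ∧
        (e₁ ≠ 1 ∧ e₁ ∈ zpowers a ∨ a = 1) := by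
      by_cases ha : a = 1
      · exact ⟨1, one_mem _, one_mem _, Or.inr ha⟩
      · obtain ⟨k, hk⟩ := IsPGroup.iff_orderOf.mp hC a
        rcases k with _ | k
        · exact absurd (orderOf_eq_one_iff.mp (by simpa using hk)) ha
        refine ⟨a ^ p ^ k, ?_, inr_mem _ _, Or.inl ⟨fun e => ?_, pow_mem (mem_zpowers a) _⟩⟩
        · show (a ^ p ^ k) ^ p = 1
          rw [← pow_mul, ← pow_succ, ← hk, pow_orderOf_eq_one]
        · have := orderOf_dvd_of_pow_eq_one e
          rw [hk] at this
          exact absurd (Nat.le_of_dvd (pow_pos hp.out.pos _) this)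
            (Nat.not_le.mpr (Nat.pow_lt_pow_right hp.out.one_lt (Nat.lt_succ_self k)))
    have hgens : ∃ u v, closure ({u, v} : Set C) = ⊤ := by
      rcases he₁ with ⟨he1, he1a⟩ | rfl
      · obtain ⟨e₂, he₂E, hgE⟩ : ∃ e₂ ∈ E, E ≤ zpowers e₁ ⊔ zpowers e₂ := by
          by_cases h : E ≤ zpowers e₁
          · exact ⟨1, one_mem _, h.trans le_sup_left⟩
          obtain ⟨e₂, he₂, hne⟩ := SetLike.not_le_iff_exists.mp h
          refine ⟨e₂, he₂, ?_⟩
          have hle : zpowers e₁ ⊔ zpowers e₂ ≤ E := sup_le (zpowers_le.mpr he₁E) (zpowers_le.mpr he₂)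
          refine (eq_of_le_of_card_ge hle (hE2.trans ?_)).ge
          have ho : orderOf e₁ = p := orderOf_eq_prime he₁E he1
          obtain ⟨k, hk⟩ := IsPGroup.iff_card.mp (hC.to_subgroup (zpowers e₁ ⊔ zpowers e₂))
          rw [hk]
          refine Nat.pow_le_pow_right hp.out.pos ?_
          by_contra hk2
          have hsub : zpowers e₁ = zpowers e₁ ⊔ zpowers e₂ := eq_of_le_of_card_ge le_sup_left (by
            rw [hk, Nat.card_zpowers, ho]
            exact (Nat.pow_le_pow_right hp.out.pos (show k ≤ 1 by omega)).trans (pow_one p).le)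
          exact hne (hsub ▸ mem_sup_right (mem_zpowers e₂))
        refine ⟨a, e₂, eq_top_iff.mpr fun g _ => ?_⟩
        obtain ⟨i, hi⟩ := hrep g
        have h1 : zpowers e₁ ⊔ zpowers e₂ ≤ closure ({a, e₂} : Set C) := sup_le
          (zpowers_le.mpr (zpowers_le.mpr (inl_mem _ _) he1a))
          (zpowers_le.mpr (inr_mem _ _))
        rw [show g = a ^ i * ((a ^ i)⁻¹ * g) by group]
        exact mul_mem (zpow_mem (inl_mem _ _) _) (h1 (hgE hi))
      · have hall : ∀ g : C, g ∈ E := fun g => by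
          obtain ⟨i, hi⟩ := hrep g
          simpa using hi
        have hCp : ∀ g : C, g ^ p = 1 := hall
        obtain ⟨e₁, he₁⟩ : ∃ e : C, e ≠ 1 := by
          by_contra! h
          exact hE1 ((eq_bot_iff_forall _).mpr fun x _ => h x)
        obtain ⟨e₂, -, he₂⟩ : ∃ e₂ ∈ (⊤ : Subgroup C), e₂ ∉ zpowers e₁ := by
          by_contra! h
          exact hcyc ⟨⟨e₁, fun x => h x (mem_top x)⟩⟩
        refine ⟨e₁, e₂, ?_⟩
        refine eq_top_of_le_card _ ?_
        have hEtop : E = ⊤ := eq_top_iff.mpr fun g _ => hall g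
        rw [hEtop, card_top] at hE2
        refine hE2.trans ?_
        obtain ⟨k, hk⟩ := IsPGroup.iff_card.mp (hC.to_subgroup (closure ({e₁, e₂} : Set C)))
        rw [hk]
        refine Nat.pow_le_pow_right hp.out.pos ?_
        by_contra hk2
        have ho : orderOf e₁ = p := orderOf_eq_prime (hCp _) he₁
        have hsub : zpowers e₁ = closure ({e₁, e₂} : Set C) := eq_of_le_of_card_ge
          (zpowers_le.mpr (inl_mem _ _)) (by
            rw [hk, Nat.card_zpowers, ho]
            exact (Nat.pow_le_pow_right hp.out.pos (show k ≤ 1 by omega)).trans (pow_one p).le)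
        exact he₂ (hsub ▸ inr_mem _ _)
    obtain ⟨u, v, huv⟩ := hgens
    exact metacyclic_of_powerful hp2 hC huv (by rw [hab]; exact bot_le)
  · obtain ⟨hel, hΩ⟩ := S0638.result hp2 (hC.to_quotient E) hQm hQc
    have hsurj : φ.range = ⊤ := eq_top_of_le_card _ (hE2.trans (hΩ ▸ hrange _ hel.2))
    have hEU : E ≤ U p 1 C := fun e he => by
      obtain ⟨g, hg⟩ := hsurj ▸ mem_top (⟨e, he⟩ : E)
      rw [show e = (g : C) ^ p from (congrArg Subtype.val hg).symm]
      exact pow_mem_U_one _
    obtain ⟨a, rfl⟩ := QuotientGroup.mk'_surjective E aQ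
    obtain ⟨b, rfl⟩ := QuotientGroup.mk'_surjective E bQ
    have hgen : closure ({a, b} : Set C) = ⊤ := frattini_nongenerating (eq_top_iff.mpr fun g _ => by
      have h1 : π g ∈ (closure ({a, b} : Set C)).map π := by
        rw [MonoidHom.map_closure, Set.image_pair, hgenQ]; exact mem_top _
      obtain ⟨w, hw, hwg⟩ := h1
      rw [show g = w * (w⁻¹ * g) by group]
      exact mul_mem (mem_sup_left hw) (mem_sup_right (U_one_le_frattini hC (hEU (QuotientGroup.eq.mp hwg)))))
    refine metacyclic_of_powerful hp2 hC hgen fun x hx => ?_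
    have h1 : π x ∈ U p 1 (C ⧸ E) := by
      refine commutator_le_U_of_metacyclic (hC.to_quotient E) hQm ?_
      rw [_root_.commutator_def] at hx ⊢
      have := mem_map_of_mem π hx
      rw [map_commutator, Subgroup.map_top_of_surjective π (QuotientGroup.mk'_surjective E)] at this
      exact this
    have h2 : U p 1 (C ⧸ E) ≤ (U p 1 C).map π := (closure_le _).mpr (by
      rintro _ ⟨y, rfl⟩
      obtain ⟨g, rfl⟩ := QuotientGroup.mk'_surjective E y
      exact ⟨g ^ p ^ 1, pow_mem_U g 1, map_pow π g _⟩)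
    obtain ⟨w, hw, hwx⟩ := h2 h1
    rw [show x = w * (w⁻¹ * x) by group]
    exact mul_mem hw (hEU (QuotientGroup.eq.mp hwx))

end Cfsg.Agent.Blackburn23
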