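import Cfsg.Agent.Lib.Blackburn23.ThreeBase

/-!
# `3`-groups of rank two
-/

set_option autoImplicit false
set_option linter.style.haveILetI false
set_option linter.unusedSectionVars false
set_option linter.unusedVariables false

namespace Cfsg.Agent.Blackburn23

open Subgroup Cfsg Cfsg.Agent
open scoped commutatorElement

universe u

variable {G : Type u} [Group G] [Finite G]

/-- The conclusion for `3`-groups. -/
def ThreeGoal (G : Type u) [Group G] (n : ℕ) : Prop :=
  IsMetacyclic G ∨ (∃ H : Subgroup G, H.Normal ∧ Nat.card H = 3 ^ 3 ∧ ∀ x ∈ H, x ^ 3 = 1) ∨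
    (2 ≤ n ∧ (⊤ : Subgroup G).lowerCentralSeries (n - 2) ≠ ⊥)

variable (hG : IsPGroup 3 G) (E : Subgroup G) [E.Normal] (hE : Nat.card E = 3 ^ 2) (hEx : ∀ e ∈ E, e ^ 3 = 1)
  (hEc : ∀ e ∈ E, ∀ f ∈ E, Commute e f)

include hG hE hEx in
/-- Commutators with elements of `E` are central of order dividing `3`. -/
theorem comm_E (t : G) {e : G} (he : e ∈ E) : ⁅t, e⁆ ∈ center G ∧ ⁅t, e⁆ ^ 3 = 1 ∧ ⁅t, e⁆ ∈ E := by
  haveI := hG.isNilpotent
  set R : Subgroup G := ⁅E, (⊤ : Subgroup G)⁆
  have hR : R ≤ E := commutator_le_left _ _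
  have hmem : ⁅t, e⁆ ∈ R := by rw [← commutatorElement_inv]; exact inv_mem (commutator_mem_commutator he (mem_top t))
  have hne : ¬ E ≤ (⊥ : Subgroup G) := fun h => by
    rw [le_bot_iff.mp h, card_bot] at hE
    norm_num at hE
  have hlt : R < E := lt_of_le_not_ge hR (by simpa using not_le_comm_sup hne)
  have hcard := Basics.card_lt_of_lt hlt
  obtain ⟨k, hk⟩ := IsPGroup.iff_card.mp (hG.to_subgroup R)
  rw [hk, hE, Nat.pow_lt_pow_iff_right (by norm_num : 1 < 3)] at hcard
  refine ⟨?_, hEx _ (hR hmem), hR hmem⟩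
  by_cases hd : ⁅t, e⁆ = 1
  · rw [hd]; exact one_mem _
  have heq : zpowers ⁅t, e⁆ = R := eq_of_le_of_card_ge (zpowers_le.mpr hmem) (by
    rw [Nat.card_zpowers, orderOf_eq_prime (hEx _ (hR hmem)) hd, hk]
    exact (Nat.pow_le_pow_right (by norm_num) (show k ≤ 1 by omega)).trans (pow_one 3).le)
  haveI : (zpowers ⁅t, e⁆).Normal := heq ▸ inferInstance
  exact central_of_normal_prime hG (hEx _ (hR hmem))

include hG hE hEx hEc in
theorem centralizer_index {g : G} (hg : g ∉ centralizer (E : Set G)) :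
    g ^ 3 ∈ centralizer (E : Set G) ∧ ∀ t : G, ∃ k : ℕ, t * (g ^ k)⁻¹ ∈ centralizer (E : Set G) := by
  have hgE : ∃ e₀ ∈ E, ¬ Commute g e₀ := by
    by_contra! h
    exact hg (mem_centralizer_iff.mpr fun e he => (h e he).symm.eq)
  obtain ⟨e₀, he₀, hne⟩ := hgE
  set ζ := ⁅g, e₀⁆ with hζ
  obtain ⟨hζc, hζ3, hζE⟩ := comm_E hG E hE hEx g he₀
  have hζ1 : ζ ≠ 1 := fun h => hne (commutatorElement_eq_one_iff_commute.mp h)
  have hζo : orderOf ζ = 3 := orderOf_eq_prime hζ3 hζ1
  -- `E` is generated by `e₀` and `ζ`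
  have hEgen : E = zpowers ζ ⊔ zpowers e₀ := by
    have hle : zpowers ζ ⊔ zpowers e₀ ≤ E := sup_le (zpowers_le.mpr hζE) (zpowers_le.mpr he₀)
    refine (eq_of_le_of_card_ge hle ?_).symm
    have hlt : zpowers ζ < zpowers ζ ⊔ zpowers e₀ := lt_of_le_of_ne le_sup_left fun h => by
      have : e₀ ∈ zpowers ζ := h.symm ▸ mem_sup_right (mem_zpowers _)
      exact hne (mem_center_iff.mp (zpowers_le.mpr hζc this) g)
    have h1 := Basics.card_lt_of_lt hlt
    obtain ⟨k, hk⟩ := IsPGroup.iff_card.mp (hG.to_subgroup (zpowers ζ ⊔ zpowers e₀))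
    rw [Nat.card_zpowers, hζo, hk] at h1
    rw [hE, hk]
    refine Nat.pow_le_pow_right (by norm_num) ?_
    by_contra hk2
    interval_cases k <;> simp at h1
  have key : ∀ t, Commute t e₀ → t ∈ centralizer (E : Set G) := by
    intro t ht
    have : E ≤ centralizer {t} := by
      rw [hEgen]
      exact sup_le (zpowers_le.mpr (mem_centralizer_singleton_iff.mpr (mem_center_iff.mp hζc t).symm))
        (zpowers_le.mpr (mem_centralizer_singleton_iff.mpr ht.symm.eq))
    exact mem_centralizer_iff.mpr fun e he => mem_centralizer_singleton_iff.mp (this he)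
  have hpow : ∀ k : ℕ, g ^ k * e₀ * (g ^ k)⁻¹ = ζ ^ k * e₀ := by
    intro k
    induction k with
    | zero => simp
    | succ k ih =>
      calc g ^ (k + 1) * e₀ * (g ^ (k + 1))⁻¹ = g * (g ^ k * e₀ * (g ^ k)⁻¹) * g⁻¹ := by rw [pow_succ']; group
        _ = (g * ζ ^ k * g⁻¹) * (g * e₀ * g⁻¹) := by rw [ih]; group
        _ = ζ ^ k * (ζ * e₀) := by
          rw [mem_center_iff.mp (pow_mem hζc k) g, mul_inv_cancel_right, hζ, commutatorElement_def]; group
        _ = _ := by rw [← mul_assoc, ← pow_succ]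
  refine ⟨key _ ?_, fun t => ?_⟩
  · have h3 := hpow 3
    rw [hζ3, one_mul] at h3
    exact mul_inv_eq_iff_eq_mul.mp h3
  obtain ⟨hdc, hd3, hdE⟩ := comm_E hG E hE hEx t he₀
  have hd : ⁅t, e₀⁆ ∈ zpowers ζ := by
    haveI := hG.isNilpotent
    set R : Subgroup G := ⁅E, (⊤ : Subgroup G)⁆
    have hne' : ¬ E ≤ (⊥ : Subgroup G) := fun h => by
      rw [le_bot_iff.mp h, card_bot] at hE
      norm_num at hE
    have hlt : R < E := lt_of_le_not_ge (commutator_le_left _ _) (by simpa using not_le_comm_sup hne')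
    have hcard := Basics.card_lt_of_lt hlt
    obtain ⟨k, hk⟩ := IsPGroup.iff_card.mp (hG.to_subgroup R)
    rw [hk, hE, Nat.pow_lt_pow_iff_right (by norm_num : 1 < 3)] at hcard
    have hmem : ∀ u, ⁅u, e₀⁆ ∈ R := fun u => by
      rw [← commutatorElement_inv]; exact inv_mem (commutator_mem_commutator he₀ (mem_top u))
    rw [eq_of_le_of_card_ge (zpowers_le.mpr (hmem g)) (by
      rw [Nat.card_zpowers, hζo, hk]
      exact (Nat.pow_le_pow_right (by norm_num) (show k ≤ 1 by omega)).trans (pow_one 3).le)]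
    exact hmem t
  obtain ⟨k, hk⟩ := mem_powers_iff_mem_zpowers.mpr hd
  simp only at hk
  refine ⟨k, key _ ?_⟩
  have e1 : (g ^ k)⁻¹ * e₀ * g ^ k = ζ⁻¹ ^ k * e₀ := by
    have h1 := hpow k
    have hz : Commute (g ^ k) (ζ⁻¹ ^ k) := mem_center_iff.mp (pow_mem (inv_mem hζc) k) _
    calc (g ^ k)⁻¹ * e₀ * g ^ k = (g ^ k)⁻¹ * (ζ⁻¹ ^ k * (g ^ k * e₀ * (g ^ k)⁻¹)) * g ^ k := by
          rw [h1]; simp
      _ = ((g ^ k)⁻¹ * (ζ⁻¹ ^ k * g ^ k)) * e₀ := by group
      _ = ζ⁻¹ ^ k * e₀ := by rw [← hz.eq, inv_mul_cancel_left]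
  refine mul_inv_eq_iff_eq_mul.mp ?_
  calc t * (g ^ k)⁻¹ * e₀ * (t * (g ^ k)⁻¹)⁻¹ = t * ((g ^ k)⁻¹ * e₀ * g ^ k) * t⁻¹ := by group
    _ = (t * ζ⁻¹ ^ k * t⁻¹) * (⁅t, e₀⁆ * e₀) := by rw [e1, commutatorElement_def]; group
    _ = e₀ := by
      rw [mem_center_iff.mp (pow_mem (inv_mem hζc) k) t, mul_inv_cancel_right, ← hk, inv_pow, inv_mul_cancel_left]

include hG hE hEx hEc in
/-- An element of order three outside the centralizer of `E` acting modulo `E` gives the subgroup of order `27`. -/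
theorem goal_of_x {x : G} (hx3 : x ^ 3 = 1) (hx : x ∉ centralizer (E : Set G))
    (hxC : ∀ a ∈ centralizer (E : Set G), ⁅x, a⁆ ∈ E) (n : ℕ) : ThreeGoal G n := by
  right; left
  obtain ⟨hx3', hgen⟩ := centralizer_index hG E hE hEx hEc hx
  set H := E ⊔ zpowers x with hH
  have hxE : zpowers x ≤ normalizer (E : Set G) := by rw [normalizer_eq_top]; exact le_top
  haveI hHn : H.Normal := by
    refine normalizer_eq_top_iff.mp (eq_top_iff.mpr fun t _ => ?_)
    obtain ⟨k, hk⟩ := hgen t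
    rw [show t = t * (x ^ k)⁻¹ * x ^ k by group]
    refine mul_mem (mem_normalizer_of_conj_le fun s hs => ?_) (pow_mem (mem_normalizer_of_conj_le fun s hs =>
      mul_mem (mul_mem (mem_sup_right (mem_zpowers x)) hs) (inv_mem (mem_sup_right (mem_zpowers x)))) k)
    set a := t * (x ^ k)⁻¹
    obtain ⟨e, he, w, hw, rfl⟩ := mem_sup_of_normal_left.mp hs
    obtain ⟨i, rfl⟩ := mem_zpowers_iff.mp hw
    rw [show a * (e * x ^ i) * a⁻¹ = (a * e * a⁻¹) * (a * x * a⁻¹) ^ i by rw [conj_zpow]; group]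
    refine mul_mem (mem_sup_left ((inferInstance : E.Normal).conj_mem e he a)) (zpow_mem ?_ i)
    rw [show a * x * a⁻¹ = ⁅x, a⁆⁻¹ * x by rw [commutatorElement_def]; group]
    exact mul_mem (mem_sup_left (inv_mem (hxC a hk))) (mem_sup_right (mem_zpowers x))
  have hcomm : ∀ e ∈ E, ∀ i : ℤ, (e * x ^ i) ^ 3 = 1 := by
    intro e he i
    obtain ⟨hc, h3, -⟩ := comm_E hG E hE hEx (x ^ i) he
    have hk := mem_center_iff.mp hc
    rw [mul_pow_p (p := 3) (by norm_num) (hk e).symm (hk (x ^ i)).symm h3, hEx e he, one_mul, ← zpow_natCast,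
      ← zpow_mul, mul_comm, zpow_mul, zpow_natCast, hx3, one_zpow]
  refine ⟨H, hHn, ?_, fun s hs => ?_⟩
  · have h := Basics.card_mul_card_eq_card_sup_mul_card_inf (N := E) (H := zpowers x) hxE
    have hx1 : x ≠ 1 := fun h => hx (h ▸ one_mem _)
    have hinf : E ⊓ zpowers x = ⊥ := by
      refine (eq_bot_iff_forall _).mpr fun s hs => ?_
      obtain ⟨hsE, hsx⟩ := mem_inf.mp hs
      by_contra hs1
      have heq : zpowers s = zpowers x := eq_of_le_of_card_ge (zpowers_le.mpr hsx) (by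
        rw [Nat.card_zpowers, Nat.card_zpowers, orderOf_eq_prime (hEx s hsE) hs1, orderOf_eq_prime hx3 hx1])
      exact hx (mem_centralizer_iff.mpr fun e he => (hEc e he x (zpowers_le.mpr hsE (heq.symm ▸ mem_zpowers x))).eq)
    rw [hinf, card_bot, mul_one, hE, Nat.card_zpowers, orderOf_eq_prime hx3 hx1] at h
    rw [← hH] at h
    norm_num at h ⊢
    omega
  · obtain ⟨e, he, w, hw, rfl⟩ := mem_sup_of_normal_left.mp hs
    obtain ⟨i, rfl⟩ := mem_zpowers_iff.mp hw
    exact hcomm e he i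

section Main

variable {n : ℕ} (hn : Nat.card G = 3 ^ n) (C : Subgroup G) [C.Normal] (hCdef : C = centralizer (E : Set G))
  (hL : PowLaw C) (hCE : ∀ a ∈ C, a ^ 3 = 1 → a ∈ E) (a b : G) (haC : a ∈ C) (hbC : b ∈ C)
  (hgenC : C ≤ closure {a, b}) (g : G) (hg : g ∉ C)

include hn hL in
theorem comm_P1 {s t : G} (hs : s ∈ C) (ht : t ∈ C) : ⁅s, t⁆ ∈ P C 1 :=
  P_comm hL hn (j := 0) (by simpa using pow_mem_P (C := C) hs 0) ht

include hG hE hEx hEc hn hCdef hL hCE haC hbC hgenC hg in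
theorem caseA (hA : ∀ s ∈ C, ⁅g, s⁆ ∈ P C 1) : ThreeGoal G n := by
  obtain ⟨hg3, hgk⟩ := centralizer_index hG E hE hEx hEc (hCdef ▸ hg)
  rw [← hCdef] at hg3 hgk
  haveI := hG.isNilpotent
  set π := QuotientGroup.mk' (P C 1) with hπ
  have hgen : closure (insert g (C : Set G)) = ⊤ := eq_top_iff.mpr fun t _ => by
    obtain ⟨k, hk⟩ := hgk t
    rw [show t = t * (g ^ k)⁻¹ * g ^ k by group]
    exact mul_mem (Subgroup.subset_closure (Set.mem_insert_of_mem _ hk)) (pow_mem (Subgroup.subset_closure (Set.mem_insert _ _)) k)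
  have hc : ∀ s t : G, Commute (π s) (π t) := by
    have hz : ∀ s t : G, ⁅s, t⁆ ∈ P C 1 → Commute (π s) (π t) := fun s t h => by
      rw [← commutatorElement_eq_one_iff_commute, ← map_commutatorElement]
      exact (QuotientGroup.eq_one_iff _).mpr h
    refine comm_mod_of_closure π hgen ?_
    rintro s (rfl | hs) t (rfl | ht)
    · exact Commute.refl _
    · exact hz _ _ (hA t ht)
    · exact (hz _ _ (hA s hs)).symm
    · exact hz _ _ (comm_P1 hn C hL hs ht)
  have hG' : ∀ s t : G, ⁅s, t⁆ ∈ P C 1 := fun s t => (QuotientGroup.eq_one_iff _).mp (by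
    show π ⁅s, t⁆ = 1
    rw [map_commutatorElement, commutatorElement_eq_one_iff_commute]
    exact hc s t)
  by_cases hcube : ∀ t : G, t ^ 3 ∈ P C 1
  · -- an element of order three outside `C`
    have hstep : ∀ i, ∃ x, x ∉ C ∧ x ^ 3 ∈ P C (i + 1) := by
      intro i
      induction i with
      | zero => exact ⟨g, hg, hcube g⟩
      | succ i ih =>
        obtain ⟨x, hx, hx3⟩ := ih
        obtain ⟨v', hv', e⟩ := P_exact hL hn hx3
        set v := v' ^ 3 ^ i with hv
        have hvP : v ∈ P C i := pow_mem_P hv' i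
        have hvC : v ∈ C := P_le C i hvP
        have hxv : x ^ 3 = v ^ 3 := by rw [e, hv, ← pow_mul, ← pow_succ]
        refine ⟨x * v⁻¹, fun h => hx (by simpa using mul_mem h hvC), ?_⟩
        set φ := QuotientGroup.mk' (P C (i + 2))
        set w := ⁅v⁻¹, x⁆ with hw
        have hwP : w ∈ P C (i + 1) := by
          rw [hw, ← commutatorElement_inv]
          exact inv_mem (P_lower hL hn (fun s hs => hG' x s) (inv_mem hvP))
        have h1 : ∀ s ∈ C, Commute (φ w) (φ s) := fun s hs => by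
          rw [← commutatorElement_eq_one_iff_commute, ← map_commutatorElement]
          exact (QuotientGroup.eq_one_iff _).mpr (P_comm hL hn hwP hs)
        have h2 : Commute (φ w) (φ x) := by
          refine Commute.symm ?_
          rw [← commutatorElement_eq_one_iff_commute, ← map_commutatorElement]
          exact (QuotientGroup.eq_one_iff _).mpr (P_lower hL hn (fun s hs => hG' x s) hwP)
        have h3 : φ w ^ 3 = 1 := by
          obtain ⟨w', hw', e'⟩ := P_exact hL hn hwP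
          rw [← map_pow, e', ← pow_mul, ← pow_succ]
          exact (QuotientGroup.eq_one_iff _).mpr (pow_mem_P hw' _)
        refine (QuotientGroup.eq_one_iff _).mp ?_
        show φ ((x * v⁻¹) ^ 3) = 1
        rw [map_pow, map_mul, mul_pow_p (p := 3) (by norm_num), ← map_pow, ← map_pow, ← map_mul, inv_pow, hxv,
          mul_inv_cancel, map_one]
        · rw [← map_commutatorElement]; exact h2
        · rw [← map_commutatorElement]; exact h1 _ (inv_mem hvC)
        · rw [← map_commutatorElement]; exact h3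
    obtain ⟨x, hx, hx3⟩ := hstep n
    rw [P_eq_bot hn C (by omega), mem_bot] at hx3
    refine goal_of_x hG E hE hEx hEc hx3 (hCdef ▸ hx) (fun s hs => ?_) n
    rw [← hCdef] at hs
    suffices hall : ∀ i, ∀ s ∈ C, ∃ v ∈ P C (i + 1), ∃ e ∈ E, ⁅x, s⁆ = v * e by
      obtain ⟨v, hv, e, he, heq⟩ := hall n s hs
      rw [P_eq_bot hn C (by omega), mem_bot] at hv
      rw [heq, hv, one_mul]; exact he
    intro i
    induction i with
    | zero => exact fun s hs => ⟨_, hG' x s, 1, one_mem _, (mul_one _).symm⟩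
    | succ i ih =>
      intro s hs
      obtain ⟨v, hv, e, he, heq⟩ := ih s hs
      obtain ⟨hfc, hf3, -⟩ := comm_E hG E hE hEx x he
      set f := ⁅x, e⁆ with hf
      have hf' := mem_center_iff.mp hfc
      have heC : ∀ r ∈ C, Commute e r := fun r hr => mem_centralizer_iff.mp (hCdef ▸ hr : r ∈ centralizer (E : Set G)) e he
      have hvC : v ∈ C := P_le C _ hv
      have hconj : ∀ r ∈ C, x * r * x⁻¹ ∈ C := fun r hr => (inferInstance : C.Normal).conj_mem r hr x
      have hxs : x * s * x⁻¹ = v * e * s := by rw [← heq, commutatorElement_def]; group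
      have hxe : x * e * x⁻¹ = f * e := by rw [hf, commutatorElement_def]; group
      have hxf : x * f * x⁻¹ = f := by rw [hf' x, mul_inv_cancel_right]
      set v₁ := x * v * x⁻¹ with hv₁
      set v₂ := x * v₁ * x⁻¹ with hv₂
      have hkey : v₂ * v₁ * v = 1 := by
        have h0 : x * (x * (x * s * x⁻¹) * x⁻¹) * x⁻¹ = s := by
          calc x * (x * (x * s * x⁻¹) * x⁻¹) * x⁻¹ = x ^ 3 * s * (x ^ 3)⁻¹ := by simp [pow_succ, mul_assoc]
            _ = s := by rw [hx3]; simp
        have h1 : x * (v * e * s) * x⁻¹ = v₁ * (f * e) * (v * e * s) := by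
          calc x * (v * e * s) * x⁻¹ = (x * v * x⁻¹) * (x * e * x⁻¹) * (x * s * x⁻¹) := by group
            _ = _ := by rw [hxe, hxs]
        have h2 : x * (v₁ * (f * e) * (v * e * s)) * x⁻¹ = v₂ * (f * (f * e)) * (v₁ * (f * e) * (v * e * s)) := by
          calc x * (v₁ * (f * e) * (v * e * s)) * x⁻¹
              = (x * v₁ * x⁻¹) * ((x * f * x⁻¹) * (x * e * x⁻¹)) * (x * (v * e * s) * x⁻¹) := by group
            _ = _ := by rw [hxf, hxe, h1]
        rw [hxs, h1, h2] at h0
        have hev₁ : Commute e v₁ := heC _ (hconj v hvC)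
        have hev : Commute e v := heC v hvC
        have h3 : v₂ * v₁ * v * (f ^ 3 * e ^ 3) * s = s := by
          calc v₂ * v₁ * v * (f ^ 3 * e ^ 3) * s = v₂ * (f * (f * e)) * (v₁ * (f * e) * (v * e * s)) := by
                have hfe : Commute f e := (hf' e).symm
                have cf : ∀ r, Commute f r := fun r => (hf' r).symm
                have c1 : Commute (f * (f * e)) v₁ := (cf v₁).mul_left ((cf v₁).mul_left hev₁)
                have c2 : Commute (f * e) v := (cf v).mul_left hev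
                have c3 : Commute (f * (f * e) * (f * e)) v := ((cf v).mul_left c2).mul_left c2
                have e3 : f ^ 3 * e ^ 3 = f * (f * e) * (f * e) * e := by
                  calc f ^ 3 * e ^ 3 = f * f * (f * e) * e * e := by simp [pow_succ, mul_assoc]
                    _ = f * f * (e * f) * e * e := by rw [hfe.eq]
                    _ = _ := by simp [mul_assoc]
                calc v₂ * v₁ * v * (f ^ 3 * e ^ 3) * s = v₂ * v₁ * (v * (f * (f * e) * (f * e))) * (e * s) := by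
                      rw [e3]; simp [mul_assoc]
                  _ = v₂ * (v₁ * (f * (f * e))) * (f * e) * (v * e * s) := by rw [← c3.eq]; simp [mul_assoc]
                  _ = _ := by rw [← c1.eq]; simp [mul_assoc]
            _ = s := h0
        rw [hf3, hEx e he, one_mul, mul_one, mul_eq_right] at h3
        exact h3
      set φ := QuotientGroup.mk' (P C (i + 3))
      have hwP : ⁅x, v⁆ ∈ P C (i + 2) := P_lower hL hn (fun s hs => hG' x s) hv
      have hφv₁ : φ v₁ = φ ⁅x, v⁆ * φ v := by rw [← map_mul]; congr 1; rw [hv₁, commutatorElement_def]; group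
      have hφw : φ (x * ⁅x, v⁆ * x⁻¹) = φ ⁅x, v⁆ := by
        rw [show x * ⁅x, v⁆ * x⁻¹ = ⁅x, ⁅x, v⁆⁆ * ⁅x, v⁆ by rw [commutatorElement_def x ⁅x, v⁆]; group, map_mul,
          show φ ⁅x, ⁅x, v⁆⁆ = 1 from (QuotientGroup.eq_one_iff _).mpr (P_lower hL hn (fun s hs => hG' x s) hwP), one_mul]
      have hφv₂ : φ v₂ = φ ⁅x, v⁆ * (φ ⁅x, v⁆ * φ v) := by
        rw [hv₂, show x * v₁ * x⁻¹ = (x * ⁅x, v⁆ * x⁻¹) * v₁ by rw [hv₁, commutatorElement_def]; group, map_mul,
          hφw, hφv₁]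
      have hwc : Commute (φ ⁅x, v⁆) (φ v) := by
        rw [← commutatorElement_eq_one_iff_commute, ← map_commutatorElement]
        exact (QuotientGroup.eq_one_iff _).mpr (P_comm hL hn hwP hvC)
      have hw3 : φ ⁅x, v⁆ ^ 3 = 1 := by
        obtain ⟨w', hw', e'⟩ := P_exact hL hn hwP
        rw [← map_pow, e', ← pow_mul, ← pow_succ]
        exact (QuotientGroup.eq_one_iff _).mpr (pow_mem_P hw' _)
      have hv3 : v ^ 3 ∈ P C (i + 3) := by
        refine (QuotientGroup.eq_one_iff _).mp ?_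
        show φ (v ^ 3) = 1
        have h := congrArg φ hkey
        rw [map_mul, map_mul, map_one, hφv₁, hφv₂] at h
        rw [map_pow, ← h]
        generalize φ ⁅x, v⁆ = W at hwc hw3 ⊢
        generalize φ v = V at hwc ⊢
        calc V ^ 3 = W ^ 3 * V ^ 3 := by rw [hw3, one_mul]
          _ = W * W * W * (V * V * V) := by simp [pow_succ, mul_assoc]
          _ = W * W * (W * V) * (V * V) := by simp [mul_assoc]
          _ = W * W * (V * W) * (V * V) := by rw [hwc.eq]
          _ = W * (W * V) * (W * V) * V := by simp [mul_assoc]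
      obtain ⟨t, ht, e₃⟩ := P_exact hL hn hv3
      have htv := hL.inj (t ^ 3 ^ (i + 2)) (pow_mem ht _) v hvC (by rw [← pow_mul, ← pow_succ, e₃])
      refine ⟨t ^ 3 ^ (i + 2), pow_mem_P ht _, (t ^ 3 ^ (i + 2))⁻¹ * v * e,
        mul_mem (hCE _ (mul_mem (inv_mem (pow_mem ht _)) hvC) htv) he, ?_⟩
      rw [heq]; group
  · -- powerful with two generators
    left
    push_neg at hcube
    obtain ⟨q, hq⟩ := hcube
    have hqC : q ∉ C := fun h => hq (by simpa using pow_mem_P (C := C) h 1)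
    obtain ⟨hq3, hqk⟩ := centralizer_index hG E hE hEx hEc (hCdef ▸ hqC)
    rw [← hCdef] at hq3 hqk
    have hexp : ∀ s ∈ C, π s ^ 3 = 1 := fun s hs => by
      rw [← map_pow]; exact (QuotientGroup.eq_one_iff _).mpr (by simpa using pow_mem_P (C := C) hs 1)
    have hrep : ∃ i j : ℤ, π (q ^ 3) = π a ^ i * π b ^ j := by
      suffices hall : ∀ w ∈ closure ({a, b} : Set G), ∃ i j : ℤ, π w = π a ^ i * π b ^ j from hall _ (hgenC hq3)
      intro w hw
      induction hw using closure_induction with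
      | mem t ht => rcases ht with rfl | rfl
                    · exact ⟨1, 0, by simp⟩
                    · exact ⟨0, 1, by simp⟩
      | one => exact ⟨0, 0, by simp⟩
      | mul u v _ _ hu hv =>
        obtain ⟨i, j, hu⟩ := hu
        obtain ⟨i', j', hv⟩ := hv
        exact ⟨i + i', j + j', by rw [map_mul, hu, hv, ((hc b a).zpow_zpow j i').mul_mul_mul_comm, ← zpow_add, ← zpow_add]⟩
      | inv u _ hu =>
        obtain ⟨i, j, hu⟩ := hu
        exact ⟨-i, -j, by rw [map_inv, hu, mul_inv_rev, zpow_neg, zpow_neg, ((hc b a).zpow_zpow j i).inv_inv.eq]⟩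
    obtain ⟨i, j, hij⟩ := hrep
    have hP1 : P C 1 ≤ U 3 1 G := (closure_le _).mpr (by rintro _ ⟨s, -, rfl⟩; exact pow_mem_U s 1)
    have finish : ∀ (s t : G) (i j : ℤ), s ∈ C → t ∈ C → ({a, b} : Set G) ⊆ {s, t} → π (q ^ 3) = π s ^ i * π t ^ j →
        ¬ (3 : ℤ) ∣ i → IsMetacyclic G := by
      intro s t i j hs ht hsub hij hi
      refine metacyclic_of_powerful (p := 3) (by norm_num) hG (a := q) (b := t)
        (frattini_nongenerating (eq_top_iff.mpr fun r _ => ?_))
        (by rw [_root_.commutator_def, commutator_le]; exact fun r _ r' _ => hP1 (hG' r r'))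
      set K := closure ({q, t} : Set G) ⊔ frattini G
      have hPK : P C 1 ≤ K := hP1.trans ((U_one_le_frattini hG).trans le_sup_right)
      have hCK : C ≤ K := by
        refine hgenC.trans ((closure_le _).mpr fun w hw => ?_)
        rcases hsub hw with rfl | rfl
        · obtain ⟨u, v, huv⟩ := ((Nat.prime_iff_prime_int.mp Nat.prime_three).coprime_iff_not_dvd.mpr hi)
          have e : π w = π ((q ^ 3 * (t ^ j)⁻¹) ^ v) := by
            rw [map_zpow, map_mul, map_inv, map_zpow, hij, mul_inv_cancel_right, ← zpow_mul]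
            calc π w = π w ^ (u * 3 + v * i) := by rw [show u * 3 + v * i = 1 from huv, zpow_one]
              _ = π w ^ (i * v) := by
                rw [zpow_add, mul_comm u, zpow_mul, zpow_ofNat, hexp w hs, one_zpow, one_mul, mul_comm v]
          have h2 := K.mul_mem (zpow_mem (mul_mem (pow_mem (mem_sup_left (inl_mem q t)) 3)
            (inv_mem (zpow_mem (mem_sup_left (inr_mem q t)) j))) v) (hPK (QuotientGroup.eq.mp e.symm))
          rwa [mul_inv_cancel_left] at h2
        · exact mem_sup_left (inr_mem q w)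
      obtain ⟨k, hk⟩ := hqk r
      rw [show r = r * (q ^ k)⁻¹ * q ^ k by group]
      exact mul_mem (hCK hk) (pow_mem (mem_sup_left (inl_mem q t)) k)
    by_cases hi : (3 : ℤ) ∣ i
    · by_cases hj : (3 : ℤ) ∣ j
      · refine absurd ?_ hq
        obtain ⟨i', rfl⟩ := hi
        obtain ⟨j', rfl⟩ := hj
        refine (QuotientGroup.eq_one_iff (q ^ 3)).mp ?_
        show π (q ^ 3) = 1
        rw [hij, zpow_mul, zpow_mul, zpow_ofNat, zpow_ofNat, hexp a haC, hexp b hbC, one_zpow, one_zpow, one_mul]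
      · exact finish b a j i hbC haC (by rintro w (rfl | rfl) <;> simp)
          (by rw [hij, ((hc a b).zpow_zpow i j).eq]) hj
    · exact finish a b i j haC hbC subset_rfl hij hi

include hG hE hEx hEc hn hCdef hL hCE haC hbC hgenC hg in
theorem caseB {z : G} (hzC : z ∈ C) (hgz : ⁅g, z⁆ ∉ P C 1) (h4 : 4 ≤ n) : ThreeGoal G n := by
  obtain ⟨hg3, hgk⟩ := centralizer_index hG E hE hEx hEc (hCdef ▸ hg)
  rw [← hCdef] at hg3 hgk
  haveI := hG.isNilpotent
  set u := ⁅g, z⁆ with hu
  have huC : u ∈ C := by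
    rw [hu, commutatorElement_def]; exact mul_mem ((inferInstance : C.Normal).conj_mem z hzC g) (inv_mem hzC)
  have hgzu : g * z * g⁻¹ = u * z := by rw [hu, commutatorElement_def]; group
  -- the chain `P₁ < W < C`
  set W : Subgroup G := ⁅C, (⊤ : Subgroup G)⁆ ⊔ P C 1 with hW
  haveI hWn : W.Normal := inferInstance
  have huW : u ∈ W := by
    rw [hu, ← commutatorElement_inv]
    exact inv_mem (mem_sup_left (commutator_mem_commutator hzC (mem_top g)))
  have hCP : ¬ C ≤ P C 1 := fun h => hgz (h huC)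
  have hWC : W < C := lt_of_le_not_ge (sup_le (commutator_le_left _ _) (P_le C 1)) (not_le_comm_sup hCP)
  have hPW : ¬ W ≤ P C 1 := fun h => hgz (h huW)
  have hWG : ⁅W, (⊤ : Subgroup G)⁆ ⊔ P C 1 < W :=
    lt_of_le_not_ge (sup_le (commutator_le_left _ _) le_sup_right) (not_le_comm_sup hPW)
  have h9 : Nat.card C ≤ 9 * Nat.card (P C 1) := by
    have hn1 : zpowers a ≤ normalizer (P C 1 : Set G) := by rw [normalizer_eq_top]; exact le_top
    have h1 := card_le_card_mul a hn1 (by simpa using pow_mem_P (C := C) haC 1)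
    have hn2 : zpowers b ≤ normalizer ((P C 1 ⊔ zpowers a : Subgroup G) : Set G) := by
      refine zpowers_le.mpr (mem_normalizer_of_conj_le fun s hs => ?_)
      have hsC : s ∈ C := (sup_le (P_le C 1) (zpowers_le.mpr haC)) hs
      rw [show b * s * b⁻¹ = ⁅b, s⁆ * s by rw [commutatorElement_def]; group]
      exact mul_mem (mem_sup_left (comm_P1 hn C hL hbC hsC)) hs
    have h2 := card_le_card_mul b hn2 (mem_sup_left (by simpa using pow_mem_P (C := C) hbC 1))
    have hle : C ≤ P C 1 ⊔ zpowers a ⊔ zpowers b := hgenC.trans ((closure_le _).mpr (by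
      rintro w (rfl | rfl)
      · exact mem_sup_left (mem_sup_right (mem_zpowers _))
      · exact mem_sup_right (mem_zpowers _)))
    have h3 := card_le_of_le hle
    omega
  have hstep : ∀ A B : Subgroup G, A < B → 3 * Nat.card A ≤ Nat.card B := by
    intro A B hAB
    have h1 := Basics.card_lt_of_lt hAB
    obtain ⟨i, hi⟩ := IsPGroup.iff_card.mp (hG.to_subgroup A)
    obtain ⟨j, hj⟩ := IsPGroup.iff_card.mp (hG.to_subgroup B)
    rw [hi, hj, Nat.pow_lt_pow_iff_right (by norm_num : 1 < 3)] at h1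
    rw [hi, hj, ← pow_succ']
    exact Nat.pow_le_pow_right (by norm_num) h1
  have hWu : P C 1 ⊔ zpowers u = W := by
    refine eq_of_le_of_card_ge (sup_le le_sup_right (zpowers_le.mpr huW)) ?_
    have h1 := hstep _ _ hWC
    have h2 := hstep (P C 1) (P C 1 ⊔ zpowers u) (lt_of_le_of_ne le_sup_left fun e => hgz (e.symm ▸ mem_sup_right (mem_zpowers u)))
    omega
  have hWG1 : ∀ w ∈ W, ∀ t : G, ⁅t, w⁆ ∈ P C 1 := by
    intro w hw t
    have h1 := hstep _ _ hWC
    have h2 := hstep _ _ hWG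
    have heq : ⁅W, (⊤ : Subgroup G)⁆ ⊔ P C 1 = P C 1 := (eq_of_le_of_card_ge le_sup_right (by omega)).symm
    rw [← commutatorElement_inv]
    exact inv_mem (heq ▸ mem_sup_left (commutator_mem_commutator hw (mem_top t)))
  have hzW : z ∉ W := fun h => hgz (hWG1 z h g)
  have hCz : W ⊔ zpowers z = C := by
    refine eq_of_le_of_card_ge (sup_le hWC.le (zpowers_le.mpr hzC)) ?_
    have h1 := hstep (P C 1) W (lt_of_le_not_ge le_sup_right hPW)
    have h2 := hstep W (W ⊔ zpowers z) (lt_of_le_of_ne le_sup_left fun e => hzW (e.symm ▸ mem_sup_right (mem_zpowers z)))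
    omega
  have hCrep : ∀ s ∈ C, ∃ (α β : ℤ) (w : G), w ∈ P C 1 ∧ s = z ^ α * (u ^ β * w) := by
    intro s hs
    rw [← hCz, sup_comm] at hs
    obtain ⟨s₁, hs₁, s₂, hs₂, rfl⟩ := mem_sup_of_normal_right.mp hs
    rw [← hWu, sup_comm] at hs₂
    obtain ⟨s₃, hs₃, w, hw, rfl⟩ := mem_sup_of_normal_right.mp hs₂
    obtain ⟨α, rfl⟩ := mem_zpowers_iff.mp hs₁
    obtain ⟨β, rfl⟩ := mem_zpowers_iff.mp hs₃
    exact ⟨α, β, w, hw, rfl⟩
  by_cases hcube : ∀ t : G, t ^ 3 ∈ P C 1
  swap
  · -- metacyclic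
    left
    push_neg at hcube
    obtain ⟨q, hq⟩ := hcube
    have hqC : q ∉ C := fun h => hq (by simpa using pow_mem_P (C := C) h 1)
    obtain ⟨hq3, hqk⟩ := centralizer_index hG E hE hEx hEc (hCdef ▸ hqC)
    rw [← hCdef] at hq3 hqk
    have hqz : ⁅q, z⁆ ∉ P C 1 := by
      intro h
      refine hgz ?_
      obtain ⟨k, hk⟩ := hqk g
      set c := g * (q ^ k)⁻¹ with hc
      refine (QuotientGroup.eq_one_iff _).mp ?_
      show QuotientGroup.mk' (P C 1) ⁅g, z⁆ = 1
      rw [map_commutatorElement, show g = c * q ^ k by rw [hc]; group, map_mul, map_pow, commutatorElement_eq_one_iff_commute]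
      refine Commute.mul_left ?_ (Commute.pow_left ?_ k)
      · rw [← commutatorElement_eq_one_iff_commute, ← map_commutatorElement]
        exact (QuotientGroup.eq_one_iff _).mpr (comm_P1 hn C hL hk hzC)
      · rw [← commutatorElement_eq_one_iff_commute, ← map_commutatorElement]
        exact (QuotientGroup.eq_one_iff _).mpr h
    have hq3W : q ^ 3 ∈ W := by
      set π := QuotientGroup.mk' W
      obtain ⟨α, β, w, hw, e⟩ := hCrep _ hq3
      have hmem : u ^ β * w ∈ W := mul_mem (zpow_mem huW β) (mem_sup_right hw)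
      by_cases hα : (3 : ℤ) ∣ α
      · obtain ⟨α', rfl⟩ := hα
        rw [e, zpow_mul, zpow_ofNat]
        exact mul_mem (zpow_mem (mem_sup_right (by simpa using pow_mem_P (C := C) hzC 1)) _) hmem
      · exfalso
        refine hqz ?_
        set φ := QuotientGroup.mk' (P C 1)
        have hφz : φ z ^ 3 = 1 := by
          rw [← map_pow]; exact (QuotientGroup.eq_one_iff _).mpr (by simpa using pow_mem_P (C := C) hzC 1)
        have h1 : Commute (φ q) (φ (z ^ α)) := by
          have hzz : z ^ α = q ^ 3 * (u ^ β * w)⁻¹ := by rw [e]; group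
          rw [hzz, map_mul, map_inv, map_pow]
          refine (Commute.self_pow _ 3).mul_right (Commute.inv_right ?_)
          rw [← commutatorElement_eq_one_iff_commute, ← map_commutatorElement]
          exact (QuotientGroup.eq_one_iff _).mpr (hWG1 _ hmem q)
        obtain ⟨x, y, hxy⟩ := ((Nat.prime_iff_prime_int.mp Nat.prime_three).coprime_iff_not_dvd.mpr hα)
        refine (QuotientGroup.eq_one_iff _).mp ?_
        show φ ⁅q, z⁆ = 1
        rw [map_commutatorElement, commutatorElement_eq_one_iff_commute]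
        have hz' : φ z = φ (z ^ α) ^ y := by
          calc φ z = φ z ^ (x * 3 + y * α) := by rw [show x * 3 + y * α = 1 from hxy, zpow_one]
            _ = φ (z ^ α) ^ y := by
              rw [zpow_add, mul_comm x, zpow_mul, zpow_ofNat, hφz, one_zpow, one_mul, mul_comm y, zpow_mul, map_zpow]
        rw [hz']; exact h1.zpow_right y
    have hP1 : P C 1 ≤ U 3 1 G := (closure_le _).mpr (by rintro _ ⟨s, -, rfl⟩; exact pow_mem_U s 1)
    have hWq : P C 1 ⊔ zpowers (q ^ 3) = W := by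
      refine eq_of_le_of_card_ge (sup_le le_sup_right (zpowers_le.mpr hq3W)) ?_
      have h1 := hstep _ _ hWC
      have h2 := hstep (P C 1) (P C 1 ⊔ zpowers (q ^ 3)) (lt_of_le_of_ne le_sup_left fun e => hq (e.symm ▸ mem_sup_right (mem_zpowers _)))
      omega
    have hWU : W ≤ U 3 1 G := hWq ▸ sup_le hP1 (zpowers_le.mpr (pow_mem_U_one q))
    refine metacyclic_of_powerful (p := 3) (by norm_num) hG (a := q) (b := z)
      (frattini_nongenerating (eq_top_iff.mpr fun r _ => ?_)) ?_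
    · have hCK : C ≤ closure ({q, z} : Set G) ⊔ frattini G := hCz ▸ sup_le
        (hWU.trans ((U_one_le_frattini hG).trans le_sup_right)) (zpowers_le.mpr (mem_sup_left (inr_mem q z)))
      obtain ⟨k, hk⟩ := hqk r
      rw [show r = r * (q ^ k)⁻¹ * q ^ k by group]
      exact mul_mem (hCK hk) (pow_mem (mem_sup_left (inl_mem q z)) k)
    · rw [_root_.commutator_def, commutator_le]
      intro r _ r' _
      refine hWU ((QuotientGroup.eq_one_iff _).mp ?_)
      show QuotientGroup.mk' W ⁅r, r'⁆ = 1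
      rw [map_commutatorElement, commutatorElement_eq_one_iff_commute]
      have hgen : closure (insert g (C : Set G)) = ⊤ := eq_top_iff.mpr fun t _ => by
        obtain ⟨k, hk⟩ := hgk t
        rw [show t = t * (g ^ k)⁻¹ * g ^ k by group]
        exact mul_mem (Subgroup.subset_closure (Set.mem_insert_of_mem _ hk)) (pow_mem (Subgroup.subset_closure (Set.mem_insert _ _)) k)
      refine comm_mod_of_closure _ hgen ?_ r r'
      have hzz : ∀ s t : G, ⁅s, t⁆ ∈ W → Commute (QuotientGroup.mk' W s) (QuotientGroup.mk' W t) := fun s t h => by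
        rw [← commutatorElement_eq_one_iff_commute, ← map_commutatorElement]
        exact (QuotientGroup.eq_one_iff _).mpr h
      rintro s (rfl | hs) t (rfl | ht)
      · exact Commute.refl _
      · exact (hzz _ _ (mem_sup_left (commutator_mem_commutator ht (mem_top _)))).symm
      · exact hzz _ _ (mem_sup_left (commutator_mem_commutator hs (mem_top _)))
      · exact hzz _ _ (mem_sup_left (commutator_mem_commutator hs (mem_top _)))
  have hcard : Nat.card C * 3 = 3 ^ n := by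
    have hgC : zpowers g ≤ normalizer (C : Set G) := by rw [normalizer_eq_top]; exact le_top
    have htop : C ⊔ zpowers g = ⊤ := eq_top_iff.mpr fun t _ => by
      obtain ⟨k, hk⟩ := hgk t
      rw [show t = t * (g ^ k)⁻¹ * g ^ k by group]
      exact mul_mem (mem_sup_left hk) (mem_sup_right (pow_mem (mem_zpowers g) k))
    have hup := card_le_card_mul g hgC hg3
    rw [htop, card_top, hn] at hup
    have hlo := hstep C ⊤ (lt_top_iff_ne_top.mpr fun e => hg (e ▸ mem_top g))
    rw [card_top, hn] at hlo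
    omega
  have hconjg : ∀ i : ℕ, ∃ d ∈ P C (i + 1), g * z ^ 3 ^ i * g⁻¹ = u ^ 3 ^ i * z ^ 3 ^ i * d := by
    intro i
    refine ⟨_, hL.mul_pow u huC z hzC i 0 (Or.inl rfl), ?_⟩
    rw [mul_inv_cancel_left, ← conj_pow, hgzu]
  set W₁ := ⁅g, u⁆ with hW₁
  have hW₁P : W₁ ∈ P C 1 := hWG1 u huW g
  have hgu : g * u * g⁻¹ = W₁ * u := by rw [hW₁, commutatorElement_def]; group
  by_cases hu3 : u ^ 3 ∈ P C 2
  · -- the powers of `C` form a cyclic group
    have hP1z : P C 1 = zpowers (z ^ 3) := by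
      have hle : zpowers (z ^ 3) ≤ P C 1 := zpowers_le.mpr (by simpa using pow_mem_P (C := C) hzC 1)
      suffices hall : ∀ i, P C 1 ≤ zpowers (z ^ 3) ⊔ P C (i + 2) by
        refine le_antisymm ?_ hle
        have := hall n
        rwa [P_eq_bot hn C (j := n + 2) (by omega), sup_bot_eq] at this
      have hrep : ∀ i, P C (i + 1) ≤ zpowers (z ^ 3) ⊔ P C (i + 2) := by
        intro i x hx
        obtain ⟨s, hs, rfl⟩ := P_exact hL hn hx
        obtain ⟨α, β, w, hw, rfl⟩ := hCrep s hs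
        obtain ⟨w', hw', ew⟩ := P_exact hL hn hw
        obtain ⟨t, ht, et⟩ := P_exact hL hn hu3
        have hd1 := hL.mul_pow (z ^ α) (zpow_mem hzC α) (u ^ β * w) (mul_mem (zpow_mem huC β) (P_le C 1 hw)) (i + 1) 0 (Or.inl rfl)
        have hd2 := hL.mul_pow (u ^ β) (zpow_mem huC β) w (P_le C 1 hw) (i + 1) 0 (Or.inl rfl)
        set A := (z ^ α) ^ 3 ^ (i + 1)
        set B := (u ^ β) ^ 3 ^ (i + 1)
        set D := w ^ 3 ^ (i + 1)
        have hA : A ∈ zpowers (z ^ 3) ⊔ P C (i + 2) := mem_sup_left (mem_zpowers_iff.mpr ⟨α * (3 : ℤ) ^ i, by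
          show (z ^ 3) ^ (α * (3 : ℤ) ^ i) = (z ^ α) ^ 3 ^ (i + 1)
          rw [← zpow_natCast, ← zpow_natCast (z ^ α), ← zpow_mul, ← zpow_mul]
          push_cast; ring_nf⟩)
        have hB : B ∈ zpowers (z ^ 3) ⊔ P C (i + 2) := by
          refine mem_sup_right ?_
          have : B = (t ^ β) ^ 3 ^ (i + 2) := by
            show (u ^ β) ^ 3 ^ (i + 1) = _
            have h1 : (u ^ β) ^ 3 = (t ^ β) ^ 3 ^ 2 := by
              rw [← zpow_natCast, ← zpow_mul, mul_comm, zpow_mul, zpow_natCast, et, ← zpow_natCast, ← zpow_mul,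
                mul_comm, zpow_mul, zpow_natCast]
            rw [pow_succ', pow_mul, h1, ← pow_mul, ← pow_add, add_comm]
          rw [this]; exact pow_mem_P (zpow_mem ht β) _
        have hD : D ∈ zpowers (z ^ 3) ⊔ P C (i + 2) := by
          refine mem_sup_right ?_
          show w ^ 3 ^ (i + 1) ∈ _
          rw [ew, ← pow_mul, ← pow_add, show i + 2 = 1 + (i + 1) by omega]
          exact pow_mem_P hw' _
        have h2 : (u ^ β * w) ^ 3 ^ (i + 1) ∈ zpowers (z ^ 3) ⊔ P C (i + 2) := by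
          have h := Subgroup.mul_mem (zpowers (z ^ 3) ⊔ P C (i + 2)) (mul_mem hB hD) (mem_sup_right hd2)
          rwa [mul_inv_cancel_left] at h
        have h := Subgroup.mul_mem (zpowers (z ^ 3) ⊔ P C (i + 2)) (mul_mem hA h2) (mem_sup_right hd1)
        rwa [mul_inv_cancel_left] at h
      intro i
      induction i with
      | zero => exact hrep 0
      | succ i ih => exact ih.trans (sup_le le_sup_left (hrep (i + 1)))
    obtain ⟨l, hl⟩ : ∃ l, orderOf z = 3 ^ l := IsPGroup.iff_orderOf.mp hG z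
    have hP1ne : P C 1 ≠ ⊥ := fun e => by
      rw [e, card_bot] at h9
      have h27 : 3 ^ 4 ≤ 3 ^ n := Nat.pow_le_pow_right (by norm_num) h4
      omega
    have hz3 : z ^ 3 ≠ 1 := fun e => hP1ne (by rw [hP1z, e, zpowers_one_eq_bot])
    -- the element of order three of `P₁`
    obtain ⟨l', rfl⟩ : ∃ l', l = l' + 2 := by
      refine Nat.exists_eq_add_of_le' ?_
      by_contra hlt
      exact hz3 (orderOf_dvd_iff_pow_eq_one.mp (hl ▸ (Nat.pow_dvd_pow_iff_le_right (by norm_num : 1 < 3)).mpr (show l ≤ 1 by omega)))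
    set ζ := z ^ 3 ^ (l' + 1) with hζ
    have hζ3 : ζ ^ 3 = 1 := by rw [hζ, ← pow_mul, ← pow_succ, ← hl, pow_orderOf_eq_one]
    have hζ1 : ζ ≠ 1 := fun e => by
      have h := orderOf_dvd_of_pow_eq_one (hζ ▸ e : z ^ 3 ^ (l' + 1) = 1)
      rw [hl, Nat.pow_dvd_pow_iff_le_right (by norm_num : 1 < 3)] at h
      omega
    have hζP : ζ ∈ P C 1 := by rw [hζ, pow_succ', pow_mul, hP1z]; exact pow_mem (mem_zpowers _) _
    have hζE : ζ ∈ E := hCE ζ (P_le C 1 hζP) hζ3
    -- elements of order three of `P₁`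
    have hP13 : ∀ s ∈ P C 1, s ^ 3 = 1 → s ∈ zpowers ζ := by
      intro s hs h3
      rw [hP1z] at hs
      obtain ⟨i, rfl⟩ := mem_zpowers_iff.mp hs
      have h9 : z ^ (3 * i * 3) = 1 := by rw [zpow_mul, zpow_mul, zpow_ofNat, zpow_ofNat]; exact h3
      rw [← orderOf_dvd_iff_zpow_eq_one, hl] at h9
      push_cast at h9
      obtain ⟨k, hk⟩ := h9
      refine mem_zpowers_iff.mpr ⟨k, ?_⟩
      have h' : (3 : ℤ) * i = (3 : ℤ) ^ (l' + 1) * k := by
        rw [show (3 : ℤ) ^ (l' + 2) = 3 ^ (l' + 1) * 3 from pow_succ 3 (l' + 1)] at hk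
        linarith
      rw [← zpow_ofNat z 3, ← zpow_mul, h', hζ, zpow_mul, ← zpow_natCast z]
      push_cast
      rfl
    have hζc : ζ ∈ center G := by
      obtain ⟨s, hs, hsc, hs1⟩ := OddLocal.exists_mem_center_ne_one_of_normal hG (P C 1) hP1ne
      obtain ⟨k, hk⟩ := IsPGroup.iff_orderOf.mp hG s
      rcases k with _ | k
      · exact absurd (orderOf_eq_one_iff.mp (by simpa using hk)) hs1
      have h3 : (s ^ 3 ^ k) ^ 3 = 1 := by rw [← pow_mul, ← pow_succ, ← hk, pow_orderOf_eq_one]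
      have hne : s ^ 3 ^ k ≠ 1 := fun e => by
        have h := orderOf_dvd_of_pow_eq_one e
        rw [hk, Nat.pow_dvd_pow_iff_le_right (by norm_num : 1 < 3)] at h
        omega
      have h := hP13 _ (pow_mem hs _) h3
      have heq : zpowers (s ^ 3 ^ k) = zpowers ζ := eq_of_le_of_card_ge (zpowers_le.mpr h)
        (by rw [Nat.card_zpowers, Nat.card_zpowers, orderOf_eq_prime hζ3 hζ1, orderOf_eq_prime h3 hne])
      exact zpowers_le.mpr (pow_mem hsc (3 ^ k)) (heq.symm ▸ mem_zpowers ζ)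
    -- `E` covers `W` modulo `P₁`
    have hEP : ¬ E ≤ P C 1 := fun h => by
      have h1 := card_le_of_le (show E ≤ zpowers ζ from fun e he => hP13 e (h he) (hEx e he))
      rw [hE, Nat.card_zpowers, orderOf_eq_prime hζ3 hζ1] at h1
      omega
    obtain ⟨y, hyE, hyP⟩ := SetLike.not_le_iff_exists.mp hEP
    have hyC : y ∈ C := hCdef ▸ mem_centralizer_iff.mpr fun e he => (hEc e he y hyE).eq
    have hyW : y ∈ W := by
      obtain ⟨α, β, w, hw, e⟩ := hCrep y hyC
      by_cases hα : (3 : ℤ) ∣ α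
      · obtain ⟨α', rfl⟩ := hα
        rw [e, zpow_mul, zpow_ofNat]
        exact mul_mem (zpow_mem (mem_sup_right (by simpa using pow_mem_P (C := C) hzC 1)) _)
          (mul_mem (zpow_mem huW β) (mem_sup_right hw))
      · exfalso
        -- then `⁅g, y⁆` would not lie in `P₁`
        set φ := QuotientGroup.mk' (P C 1)
        obtain ⟨hc, h3, -⟩ := comm_E hG E hE hEx g hyE
        have hgy : ⁅g, y⁆ ∈ P C 1 := by
          by_cases h1 : ⁅g, y⁆ = 1
          · rw [h1]; exact one_mem _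
          by_contra hno
          have hcW : ⁅g, y⁆ ∈ W := by
            rw [← commutatorElement_inv]; exact inv_mem (mem_sup_left (commutator_mem_commutator hyC (mem_top g)))
          -- `E` would be central modulo nothing: two independent central elements
          have hEle : E ≤ center G := by
            have hle : zpowers ζ ⊔ zpowers ⁅g, y⁆ ≤ E :=
              sup_le (zpowers_le.mpr hζE) (zpowers_le.mpr (comm_E hG E hE hEx g hyE).2.2)
            have hlt : zpowers ζ < zpowers ζ ⊔ zpowers ⁅g, y⁆ := lt_of_le_of_ne le_sup_left fun h => hno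
              ((zpowers_le.mpr hζP) (h.symm ▸ mem_sup_right (mem_zpowers _)))
            have h2 := hstep _ _ hlt
            rw [Nat.card_zpowers, orderOf_eq_prime hζ3 hζ1] at h2
            rw [← eq_of_le_of_card_ge hle (by rw [hE]; omega)]
            exact sup_le (zpowers_le.mpr hζc) (zpowers_le.mpr hc)
          exact h1 (commutatorElement_eq_one_iff_commute.mpr (mem_center_iff.mp (hEle hyE) g))
        have hmem : u ^ β * w ∈ W := mul_mem (zpow_mem huW β) (mem_sup_right hw)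
        have hcomm1 : Commute (φ g) (φ (z ^ α)) := by
          have hzz : z ^ α = y * (u ^ β * w)⁻¹ := by rw [e]; group
          rw [hzz, map_mul, map_inv]
          refine Commute.mul_right ?_ (Commute.inv_right ?_)
          · rw [← commutatorElement_eq_one_iff_commute, ← map_commutatorElement]
            exact (QuotientGroup.eq_one_iff _).mpr hgy
          · rw [← commutatorElement_eq_one_iff_commute, ← map_commutatorElement]
            exact (QuotientGroup.eq_one_iff _).mpr (hWG1 _ hmem g)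
        obtain ⟨x', y', hxy⟩ := ((Nat.prime_iff_prime_int.mp Nat.prime_three).coprime_iff_not_dvd.mpr hα)
        refine hgz ((QuotientGroup.eq_one_iff _).mp ?_)
        show φ ⁅g, z⁆ = 1
        rw [map_commutatorElement, commutatorElement_eq_one_iff_commute]
        have hz' : φ z = φ (z ^ α) ^ y' := by
          calc φ z = φ z ^ (x' * 3 + y' * α) := by rw [show x' * 3 + y' * α = 1 from hxy, zpow_one]
            _ = φ (z ^ α) ^ y' := by
              rw [zpow_add, mul_comm x', zpow_mul, zpow_ofNat, ← map_pow,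
                show φ (z ^ 3) = 1 from (QuotientGroup.eq_one_iff _).mpr (by simpa using pow_mem_P (C := C) hzC 1),
                one_zpow, one_mul, mul_comm y', zpow_mul, map_zpow]
        rw [hz']; exact hcomm1.zpow_right y'
    have hWy : P C 1 ⊔ zpowers y = W := by
      refine eq_of_le_of_card_ge (sup_le le_sup_right (zpowers_le.mpr hyW)) ?_
      have h1 := hstep _ _ hWC
      have h2 := hstep (P C 1) (P C 1 ⊔ zpowers y) (lt_of_le_of_ne le_sup_left fun e => hyP (e.symm ▸ mem_sup_right (mem_zpowers _)))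
      omega
    have hyc : ∀ s ∈ C, Commute y s := fun s hs => mem_centralizer_iff.mp (hCdef ▸ hs : s ∈ centralizer (E : Set G)) y hyE
    -- `⁅g, z⁆ = y ^ k * z ^ (3 j)`
    obtain ⟨k, j, huyz⟩ : ∃ (k j : ℤ), u = y ^ k * z ^ (3 * j) := by
      have h := huW
      rw [← hWy, sup_comm] at h
      obtain ⟨s, hs, w, hw, e⟩ := mem_sup_of_normal_right.mp h
      obtain ⟨k, rfl⟩ := mem_zpowers_iff.mp hs
      rw [hP1z] at hw
      obtain ⟨j, rfl⟩ := mem_zpowers_iff.mp hw
      exact ⟨k, j, by rw [← e, zpow_mul, zpow_ofNat]⟩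
    set m := 1 + 3 * j with hm
    set e := y ^ k with he
    have heE : e ∈ E := zpow_mem hyE k
    have hgz' : g * z * g⁻¹ = e * z ^ m := by rw [hgzu, huyz, hm, zpow_add, zpow_one, (Commute.self_zpow z (3 * j)).eq, mul_assoc]
    obtain ⟨hfc, hf3, -⟩ := comm_E hG E hE hEx g heE
    set f := ⁅g, e⁆ with hf
    have hge : g * e * g⁻¹ = f * e := by rw [hf, commutatorElement_def]; group
    have hec : ∀ s ∈ C, Commute e s := fun s hs => (hyc s hs).zpow_left k
    have hfz : ∀ s : G, Commute f s := fun s => (mem_center_iff.mp hfc s).symm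
    have hgzpow : ∀ M : ℤ, g * z ^ M * g⁻¹ = e ^ M * z ^ (m * M) := fun M => by
      rw [← conj_zpow, hgz', ((hec _ (zpow_mem hzC m))).mul_zpow, ← zpow_mul z m M]
    -- conjugation by `g ^ 3` fixes `z`
    have hgge : ∀ M : ℤ, g * e ^ M * g⁻¹ = f ^ M * e ^ M := fun M => by rw [← conj_zpow, hge, (hfz e).mul_zpow]
    have hggf : ∀ M : ℤ, g * f ^ M * g⁻¹ = f ^ M := fun M => by
      rw [← ((hfz g).zpow_left M).eq, mul_inv_cancel_right]
    have hcomb : ∀ A B M : ℤ, g * (f ^ A * e ^ B * z ^ M) * g⁻¹ = f ^ (A + B) * e ^ (B + M) * z ^ (m * M) := fun A B M => by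
      calc g * (f ^ A * e ^ B * z ^ M) * g⁻¹ = (g * f ^ A * g⁻¹) * (g * e ^ B * g⁻¹) * (g * z ^ M * g⁻¹) := by group
        _ = _ := by rw [hggf, hgge, hgzpow, zpow_add f, zpow_add e]; simp [mul_assoc]
    have hm3 : (3 : ℤ) ^ (l' + 2) ∣ m ^ 3 - 1 := by
      have h1 := hcomb 0 0 1
      simp only [zpow_zero, one_mul, zpow_one, zero_add, mul_one] at h1
      have h2 := hcomb 0 1 m
      simp only [zpow_zero, one_mul, zpow_one, zero_add] at h2
      have h3 := hcomb 1 (1 + m) (m * m)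
      simp only [zpow_one] at h3
      have hfix : g ^ 3 * z * (g ^ 3)⁻¹ = z := by
        have h : g ^ 3 ∈ P C 1 := hcube g
        rw [hP1z] at h
        obtain ⟨i, hi⟩ := mem_zpowers_iff.mp h
        rw [← hi, ((((Commute.refl z).pow_left 3).zpow_left i)).eq, mul_inv_cancel_right]
      have h4 : g ^ 3 * z * (g ^ 3)⁻¹ = f ^ (1 + (1 + m)) * e ^ (1 + m + m * m) * z ^ (m * (m * m)) := by
        calc g ^ 3 * z * (g ^ 3)⁻¹ = g * (g * (g * z * g⁻¹) * g⁻¹) * g⁻¹ := by simp [pow_succ, mul_assoc]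
          _ = _ := by rw [h1, h2, h3]
      rw [hfix] at h4
      have hf3' : f ^ (3 : ℤ) = 1 := by rw [zpow_ofNat]; exact hf3
      have he3' : e ^ (3 : ℤ) = 1 := by rw [zpow_ofNat]; exact hEx e heE
      rw [show (1 : ℤ) + (1 + m) = 3 * (1 + j) by rw [hm]; ring,
        show 1 + m + m * m = 3 * (1 + 3 * j + 3 * j * j) by rw [hm]; ring, zpow_mul f, zpow_mul e, hf3', he3',
        one_zpow, one_zpow, one_mul, one_mul] at h4
      have h5 : z ^ (m ^ 3 - 1) = 1 := by
        rw [zpow_sub, zpow_one, show m ^ 3 = m * (m * m) by ring, ← h4, mul_inv_cancel]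
      rw [← orderOf_dvd_iff_zpow_eq_one, hl] at h5
      exact_mod_cast h5
    obtain ⟨hdiv, -⟩ := PGroup23.dvd_sub_one_of_pow_prime (p := 3) (by norm_num) (r := m) (m := l' + 2) (by omega) (by exact_mod_cast hm3)
    obtain ⟨j', hj'⟩ := hdiv
    have huE : u ∈ E := by
      rw [huyz, show (3 : ℤ) * j = ((3 ^ (l' + 1) : ℕ) : ℤ) * j' by
        have h : m - 1 = 3 * j := by rw [hm]; ring
        push_cast; rw [← h, hj']; norm_num, zpow_mul, zpow_natCast, ← hζ]
      exact mul_mem heE (zpow_mem hζE j')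
    rcases Nat.lt_or_ge n 5 with hn4 | hn5
    · -- maximal class of order `3 ^ 4`
      right; right
      have hn' : n = 4 := by omega
      refine ⟨by omega, fun hbot => ?_⟩
      rw [hn', show (4 : ℕ) - 2 = 1 + 1 from rfl] at hbot
      have hmem : ⁅u, g⁆ ∈ (⊤ : Subgroup G).lowerCentralSeries (1 + 1) := by
        rw [Subgroup.lowerCentralSeries_succ]
        refine commutator_mem_commutator ?_ (mem_top g)
        rw [Subgroup.lowerCentralSeries_succ, Subgroup.lowerCentralSeries_zero, hu]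
        exact commutator_mem_commutator (mem_top g) (mem_top z)
      rw [hbot, mem_bot, commutatorElement_eq_one_iff_commute] at hmem
      -- `u` would be central in `G`, forcing `E` central
      have huc : u ∈ center G := mem_center_iff.mpr fun t => by
        obtain ⟨i, hi⟩ := hgk t
        rw [show t = t * (g ^ i)⁻¹ * g ^ i by group]
        exact ((Commute.symm (mem_centralizer_iff.mp (hCdef ▸ hi : _ ∈ centralizer (E : Set G)) u huE)).mul_left
          ((hmem.symm).pow_left i)).eq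
      have hle : zpowers ζ ⊔ zpowers u ≤ E := sup_le (zpowers_le.mpr hζE) (zpowers_le.mpr huE)
      have h2 := hstep _ _ (lt_of_le_of_ne le_sup_left fun h => hgz ((zpowers_le.mpr hζP) (h.symm ▸ mem_sup_right (mem_zpowers u))) : zpowers ζ < zpowers ζ ⊔ zpowers u)
      rw [Nat.card_zpowers, orderOf_eq_prime hζ3 hζ1] at h2
      have hEcen : E ≤ center G := by
        rw [← eq_of_le_of_card_ge hle (by rw [hE]; omega)]
        exact sup_le (zpowers_le.mpr hζc) (zpowers_le.mpr huc)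
      exact hg (hCdef ▸ mem_centralizer_iff.mpr fun s hs => (mem_center_iff.mp (hEcen hs) g).symm)
    · -- an element of order three outside `C`
      have hl' : 1 ≤ l' := by
        by_contra h
        have h1 : Nat.card (P C 1) = 3 ^ (l' + 1) := by
          rw [hP1z, Nat.card_zpowers, orderOf_pow' z (by norm_num : (3 : ℕ) ≠ 0), hl,
            Nat.gcd_eq_right (dvd_pow_self 3 (by omega)), show l' + 2 = (l' + 1) + 1 from rfl, pow_succ,
            Nat.mul_div_cancel _ (by norm_num : 0 < 3)]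
        rw [show l' = 0 by omega] at h1
        have h5' : 3 ^ 5 ≤ 3 ^ n := Nat.pow_le_pow_right (by norm_num) hn5
        omega
      obtain ⟨huc, hu3', -⟩ := comm_E hG E hE hEx g huE
      rw [← hW₁] at huc hu3'
      have hW₁ζ : W₁ ∈ zpowers ζ := hP13 _ hW₁P hu3'
      obtain ⟨s, hs⟩ := mem_zpowers_iff.mp hW₁ζ
      obtain ⟨i, hi⟩ := mem_zpowers_iff.mp (hP1z ▸ hcube g : g ^ 3 ∈ zpowers (z ^ 3))
      -- solve for the exponent
      have hunit : IsCoprime (1 + (3 : ℤ) ^ l' * s) ((3 : ℤ) ^ (l' + 1)) := by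
        obtain ⟨l'', rfl⟩ := Nat.exists_eq_add_of_le' hl'
        exact IsCoprime.pow_right ⟨1, -((3 : ℤ) ^ l'' * s), by ring⟩
      obtain ⟨x', y', hxy⟩ := hunit
      set J : ℤ := -i * x' with hJ
      set x := z ^ J * g with hx
      have hgw : g * z ^ J * g⁻¹ = u ^ J * z ^ J := by
        rw [← conj_zpow, hgzu, (show Commute u z from mem_centralizer_iff.mp (hCdef ▸ hzC : z ∈ centralizer (E : Set G)) u huE).mul_zpow]
      have hgu' : g * u ^ J * g⁻¹ = W₁ ^ J * u ^ J := by
        rw [← conj_zpow, hgu, (show Commute W₁ u from (mem_center_iff.mp huc u).symm).mul_zpow]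
      have hx3 : x ^ 3 = 1 := by
        have hu3z : (u ^ J) ^ 3 = 1 := hEx _ (zpow_mem huE J)
        have hzu : Commute (z ^ J) (u ^ J) :=
          ((show Commute u z from mem_centralizer_iff.mp (hCdef ▸ hzC : z ∈ centralizer (E : Set G)) u huE).symm).zpow_zpow J J
        have hW : ∀ r, Commute (W₁ ^ J) r := fun r => (show Commute W₁ r from (mem_center_iff.mp huc r).symm).zpow_left J
        calc x ^ 3 = z ^ J * (g * z ^ J * g⁻¹) * (g * (g * z ^ J * g⁻¹) * g⁻¹) * g ^ 3 := by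
              rw [hx]; simp [pow_succ, mul_assoc]
          _ = z ^ J * (u ^ J * z ^ J) * ((W₁ ^ J * u ^ J) * (u ^ J * z ^ J)) * g ^ 3 := by
              have e2 : g * (u ^ J * z ^ J) * g⁻¹ = (W₁ ^ J * u ^ J) * (u ^ J * z ^ J) := by
                calc g * (u ^ J * z ^ J) * g⁻¹ = (g * u ^ J * g⁻¹) * (g * z ^ J * g⁻¹) := by group
                  _ = _ := by rw [hgu', hgw]
              rw [hgw, e2]
          _ = W₁ ^ J * (z ^ J) ^ 3 * (u ^ J) ^ 3 * g ^ 3 := by
              generalize hA : z ^ J = A at hzu ⊢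
              generalize hB : u ^ J = B at hzu ⊢
              generalize W₁ ^ J = V at hW ⊢
              calc A * (B * A) * (V * B * (B * A)) * g ^ 3 = A * (A * B) * (V * (B * (A * B))) * g ^ 3 := by
                    rw [← hzu.eq]; simp [mul_assoc]
                _ = A * (A * B) * (V * ((B * A) * B)) * g ^ 3 := by simp [mul_assoc]
                _ = A * (A * B) * (V * (A * B * B)) * g ^ 3 := by rw [← hzu.eq]
                _ = V * (A * (A * B) * (A * B * B)) * g ^ 3 := by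
                    rw [← mul_assoc (A * (A * B)) V, ← (hW (A * (A * B))).eq]; simp [mul_assoc]
                _ = V * (A * A * (B * A) * B * B) * g ^ 3 := by simp [mul_assoc]
                _ = _ := by rw [← hzu.eq]; simp [pow_succ, mul_assoc]
          _ = z ^ ((3 : ℤ) ^ (l' + 1) * (s * J) + 3 * J + 3 * i) := by
              rw [hu3z, mul_one, zpow_add, zpow_add, zpow_mul z ((3 : ℤ) ^ (l' + 1)),
                show z ^ ((3 : ℤ) ^ (l' + 1)) = ζ by rw [show ((3 : ℤ) ^ (l' + 1)) = ((3 ^ (l' + 1) : ℕ) : ℤ) by push_cast; rfl, zpow_natCast],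
                zpow_mul ζ, hs, zpow_mul z 3 i, zpow_ofNat, hi, ← zpow_natCast (z ^ J), ← zpow_mul, mul_comm J]
              rfl
          _ = 1 := by
              rw [← orderOf_dvd_iff_zpow_eq_one, hl]
              push_cast
              refine ⟨i * y', ?_⟩
              rw [hJ]
              linear_combination (-3 * i) * hxy
      have hxC : x ∉ C := fun h => hg (by
        have h2 := mul_mem (inv_mem (zpow_mem hzC J)) h
        rwa [hx, inv_mul_cancel_left] at h2)
      refine goal_of_x hG E hE hEx hEc hx3 (hCdef ▸ hxC) (fun r hr => ?_) n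
      rw [← hCdef] at hr
      set φ := QuotientGroup.mk' E with hφ
      have hcW : ∀ w ∈ W, ∃ p' ∈ P C 1, ∃ e' ∈ E, w = p' * e' := by
        intro w hw
        rw [← hWy] at hw
        obtain ⟨p', hp', e', he', rfl⟩ := mem_sup_of_normal_left.mp hw
        exact ⟨p', hp', e', zpowers_le.mpr hyE he', rfl⟩
      have hxz : Commute (φ x) (φ z) := by
        rw [hx, map_mul, map_zpow]
        refine ((Commute.refl (φ z)).zpow_left J).mul_left ?_
        rw [← commutatorElement_eq_one_iff_commute, ← map_commutatorElement]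
        exact (QuotientGroup.eq_one_iff _).mpr huE
      refine (QuotientGroup.eq_one_iff _).mp ?_
      show φ ⁅x, r⁆ = 1
      rw [map_commutatorElement, commutatorElement_eq_one_iff_commute]
      rw [← hCz, sup_comm] at hr
      obtain ⟨r₁, hr₁, w, hw, rfl⟩ := mem_sup_of_normal_right.mp hr
      obtain ⟨α, rfl⟩ := mem_zpowers_iff.mp hr₁
      obtain ⟨p', hp', e', he', rfl⟩ := hcW w hw
      rw [hP1z] at hp'
      obtain ⟨β, rfl⟩ := mem_zpowers_iff.mp hp'
      simp only [map_mul]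
      rw [show φ e' = 1 from (QuotientGroup.eq_one_iff _).mpr he', mul_one, map_zpow, map_zpow φ (z ^ 3), map_pow]
      exact (hxz.zpow_right α).mul_right ((hxz.pow_right 3).zpow_right β)
  -- maximal class
  right; right
  refine ⟨by omega, ?_⟩
  set φ := QuotientGroup.mk' (P C 2) with hφ
  have hcentral : ∀ w ∈ P C 1, ∀ s ∈ C, Commute (φ w) (φ s) := fun w hw s hs => by
    rw [← commutatorElement_eq_one_iff_commute, ← map_commutatorElement]
    exact (QuotientGroup.eq_one_iff _).mpr (P_comm hL hn hw hs)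
  have hexp : ∀ w ∈ P C 1, φ w ^ 3 = 1 := fun w hw => by
    obtain ⟨w', hw', e⟩ := P_exact hL hn hw
    rw [← map_pow, e, ← pow_mul, ← pow_succ]
    exact (QuotientGroup.eq_one_iff _).mpr (pow_mem_P hw' 2)
  -- the elements of `P i` modulo `P (i + 1)`
  have hPrep : ∀ i, ∀ x ∈ P C i, ∃ α β : ℤ, ∃ d ∈ P C (i + 1), x = (z ^ 3 ^ i) ^ α * ((u ^ 3 ^ i) ^ β * d) := by
    intro i x hx
    obtain ⟨r, hr, rfl⟩ := P_exact hL hn hx
    obtain ⟨α, β, w, hw, rfl⟩ := hCrep r hr
    obtain ⟨w', hw', ew⟩ := P_exact hL hn hw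
    have hd1 := hL.mul_pow (z ^ α) (zpow_mem hzC α) (u ^ β * w) (mul_mem (zpow_mem huC β) (P_le C 1 hw)) i 0 (Or.inl rfl)
    have hd2 := hL.mul_pow (u ^ β) (zpow_mem huC β) w (P_le C 1 hw) i 0 (Or.inl rfl)
    set d₁ := ((z ^ α) ^ 3 ^ i * (u ^ β * w) ^ 3 ^ i)⁻¹ * (z ^ α * (u ^ β * w)) ^ 3 ^ i
    set d₂ := ((u ^ β) ^ 3 ^ i * w ^ 3 ^ i)⁻¹ * (u ^ β * w) ^ 3 ^ i
    refine ⟨α, β, w ^ 3 ^ i * d₂ * d₁, mul_mem (mul_mem ?_ hd2) hd1, ?_⟩
    · rw [ew, ← pow_mul, ← pow_add, add_comm]; exact pow_mem_P hw' _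
    · rw [show (z ^ 3 ^ i) ^ α = (z ^ α) ^ 3 ^ i by rw [← zpow_natCast, ← zpow_natCast (z ^ α), zpow_comm],
        show (u ^ 3 ^ i) ^ β = (u ^ β) ^ 3 ^ i by rw [← zpow_natCast, ← zpow_natCast (u ^ β), zpow_comm]]
      have h1 : (u ^ β * w) ^ 3 ^ i = (u ^ β) ^ 3 ^ i * w ^ 3 ^ i * d₂ := (mul_inv_cancel_left _ _).symm
      have h2 : (z ^ α * (u ^ β * w)) ^ 3 ^ i = (z ^ α) ^ 3 ^ i * (u ^ β * w) ^ 3 ^ i * d₁ := (mul_inv_cancel_left _ _).symm
      rw [h2, h1]
      simp only [mul_assoc]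
  obtain ⟨α, β, d₀, hd₀, hW₁e⟩ := hPrep 1 W₁ hW₁P
  -- the relation from `g ^ 3`
  have hα : (3 : ℤ) ∣ α + 1 := by
    have hz3P : z ^ 3 ∈ P C 1 := by simpa using pow_mem_P (C := C) hzC 1
    have hu3P : u ^ 3 ∈ P C 1 := by simpa using pow_mem_P (C := C) huC 1
    set g' := φ g with hg'
    set z' := φ z with hz'
    set u' := φ u with hu'
    set w' := φ W₁ with hw'
    have e1 : g' * z' * g'⁻¹ = u' * z' := by rw [← map_inv, ← map_mul, ← map_mul, hgzu, map_mul]
    have e2 : g' * u' * g'⁻¹ = w' * u' := by rw [← map_inv, ← map_mul, ← map_mul, hgu, map_mul]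
    have hfix : g' ^ 3 * z' * (g' ^ 3)⁻¹ = z' := by
      rw [← map_pow, (hcentral _ (hcube g) z hzC).eq, mul_inv_cancel_right]
    have hwu : Commute w' u' := hcentral _ hW₁P u huC
    have hwe : w' = φ (z ^ 3) ^ α * φ (u ^ 3) ^ β := by
      rw [hw', hW₁e, map_mul, map_mul, show φ d₀ = 1 from (QuotientGroup.eq_one_iff _).mpr hd₀, mul_one, map_zpow,
        map_zpow]
      simp
    have hwu3 : w' * u' ^ 3 = u' ^ 3 * w' := (hwu.pow_right 3).eq
    have hu3' : u' ^ 3 = φ (u ^ 3) := (map_pow φ u 3).symm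
    have e3 : g' * φ (u ^ 3) * g'⁻¹ = φ (u ^ 3) := by
      rw [← hu3', ← conj_pow, e2, hwu.mul_pow, hw', hexp _ hW₁P, one_mul]
    have e4 : g' * φ (z ^ 3) * g'⁻¹ = φ (u ^ 3) * φ (z ^ 3) := by
      have hd := hL.mul_pow u huC z hzC 1 0 (Or.inl rfl)
      rw [map_pow φ z, ← conj_pow, e1, ← hu3', ← map_pow φ u, ← map_pow φ z, ← map_mul, ← map_mul, ← map_pow]
      exact ((QuotientGroup.eq.mpr (by simpa using hd) : φ (u ^ 3 * z ^ 3) = φ ((u * z) ^ 3))).symm
    have e5 : g' * w' * g'⁻¹ = φ (u ^ 3) ^ α * w' := by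
      calc g' * w' * g'⁻¹ = (g' * φ (z ^ 3) * g'⁻¹) ^ α * (g' * φ (u ^ 3) * g'⁻¹) ^ β := by
            rw [conj_zpow, conj_zpow, hwe]; group
        _ = _ := by
            rw [e3, e4, ((hcentral _ hu3P _ (pow_mem hzC 3))).mul_zpow, mul_assoc, ← hwe]
    have h1 : g' ^ 3 * z' * (g' ^ 3)⁻¹ = (g' * w' * g'⁻¹) * (w' * u') * (w' * u') * (u' * z') := by
      calc g' ^ 3 * z' * (g' ^ 3)⁻¹ = g' * (g' * (g' * z' * g'⁻¹) * g'⁻¹) * g'⁻¹ := by simp [pow_succ, mul_assoc]
        _ = g' * (g' * (u' * z') * g'⁻¹) * g'⁻¹ := by rw [e1]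
        _ = g' * ((g' * u' * g'⁻¹) * (g' * z' * g'⁻¹)) * g'⁻¹ := by simp [mul_assoc]
        _ = g' * (w' * u' * (u' * z')) * g'⁻¹ := by rw [e1, e2]
        _ = (g' * w' * g'⁻¹) * (g' * u' * g'⁻¹) * ((g' * u' * g'⁻¹) * (g' * z' * g'⁻¹)) := by simp [mul_assoc]
        _ = _ := by rw [e1, e2]; simp [mul_assoc]
    rw [hfix, e5] at h1
    have h2 : φ (u ^ 3) ^ α * w' * (w' * u') * (w' * u') * (u' * z') = φ (u ^ 3) ^ (α + 1) * z' := by
      have h3 : φ (u ^ 3) ^ α * w' * (w' * u') * (w' * u') * (u' * z') = φ (u ^ 3) ^ α * (w' ^ 3 * u' ^ 3) * z' := by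
        calc φ (u ^ 3) ^ α * w' * (w' * u') * (w' * u') * (u' * z')
            = φ (u ^ 3) ^ α * w' * w' * (u' * w') * u' * u' * z' := by simp [mul_assoc]
          _ = φ (u ^ 3) ^ α * w' * w' * (w' * u') * u' * u' * z' := by rw [hwu.eq]
          _ = _ := by simp [pow_succ, mul_assoc]
      rw [h3, hw', hexp _ hW₁P, one_mul, hu3', zpow_add_one]
    rw [h2] at h1
    have h4 : φ (u ^ 3) ^ (α + 1) = 1 := mul_eq_right.mp h1.symm
    have hne : φ (u ^ 3) ≠ 1 := fun h => hu3 ((QuotientGroup.eq_one_iff _).mp h)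
    have ho : orderOf (φ (u ^ 3)) = 3 := orderOf_eq_prime (hexp _ hu3P) hne
    rw [← orderOf_dvd_iff_zpow_eq_one, ho] at h4
    exact_mod_cast h4
  obtain ⟨α', hα'⟩ := hα
  -- the chain
  have hgu_i : ∀ i : ℕ, ∃ γ : ℤ, ∃ d ∈ P C (i + 2),
      g * u ^ 3 ^ i * g⁻¹ = (z ^ 3 ^ (i + 1)) ^ α * (u ^ 3 ^ (i + 1)) ^ γ * u ^ 3 ^ i * d := by
    intro i
    obtain ⟨W', hW', eW⟩ := P_exact hL hn hW₁P
    obtain ⟨d', hd', ed⟩ := P_exact hL hn hd₀
    set A := (z ^ α) with hA
    set B := (u ^ β) with hB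
    have hW₁C : W₁ ∈ C := P_le C 1 hW₁P
    have k1 := hL.mul_pow W₁ hW₁C u huC i 1 (Or.inr (Or.inl ⟨W', hW', eW⟩))
    have hA3 : A ^ 3 ^ 1 ∈ C := pow_mem (zpow_mem hzC α) _
    have hBd : B ^ 3 ^ 1 * d₀ ∈ C := mul_mem (pow_mem (zpow_mem huC β) _) (P_le C 2 hd₀)
    have k2 := hL.mul_pow _ hA3 _ hBd i 1 (Or.inr (Or.inl ⟨A, zpow_mem hzC α, rfl⟩))
    have k3 := hL.mul_pow _ (pow_mem (zpow_mem huC β) (3 ^ 1) : B ^ 3 ^ 1 ∈ C) d₀ (P_le C 2 hd₀) i 1
      (Or.inr (Or.inl ⟨B, zpow_mem huC β, rfl⟩))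
    have hd3 : d₀ ^ 3 ^ i ∈ P C (i + 2) := by
      rw [ed, ← pow_mul, ← pow_add, add_comm]; exact pow_mem_P hd' _
    have ez : ∀ (t : G) (γ : ℤ) (i : ℕ), (t ^ 3 ^ i) ^ γ = (t ^ γ) ^ 3 ^ i := fun t γ i => by
      rw [← zpow_natCast, ← zpow_natCast (t ^ γ), zpow_comm]
    have hW₁' : W₁ = A ^ 3 ^ 1 * (B ^ 3 ^ 1 * d₀) := by rw [hW₁e, ez, ez]
    set φ' := QuotientGroup.mk' (P C (i + 2))
    have hone : ∀ t, t ∈ P C (i + 2) → φ' t = 1 := fun t ht => (QuotientGroup.eq_one_iff t).mpr ht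
    have q1 : φ' ((W₁ * u) ^ 3 ^ i) = φ' (W₁ ^ 3 ^ i) * φ' (u ^ 3 ^ i) := by
      have h := hone _ k1
      rw [map_mul, map_inv, inv_mul_eq_one, map_mul] at h
      exact h.symm
    have q2 : φ' (W₁ ^ 3 ^ i) = φ' ((A ^ 3 ^ 1) ^ 3 ^ i) * φ' ((B ^ 3 ^ 1) ^ 3 ^ i) := by
      have h := hone _ k2
      have h' := hone _ k3
      rw [map_mul, map_inv, inv_mul_eq_one, map_mul, ← hW₁'] at h
      rw [map_mul, map_inv, inv_mul_eq_one, map_mul, hone _ hd3, mul_one] at h'
      rw [← h, ← h']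
    refine ⟨β, ((z ^ 3 ^ (i + 1)) ^ α * (u ^ 3 ^ (i + 1)) ^ β * u ^ 3 ^ i)⁻¹ * (g * u ^ 3 ^ i * g⁻¹), ?_, by group⟩
    refine (QuotientGroup.eq_one_iff _).mp ?_
    show φ' _ = 1
    rw [map_mul, map_inv, inv_mul_eq_one, ← conj_pow, hgu, q1, q2, map_mul, map_mul]
    congr 2 <;> rw [ez, ← pow_mul, ← pow_add, Nat.add_comm 1 i]
  set K : ℕ → Subgroup G := fun i => P C (i + 1) ⊔ zpowers (u ^ 3 ^ i) with hK
  have hKle : ∀ i, K i ≤ P C i := fun i => sup_le (P_mono C (by omega)) (zpowers_le.mpr (pow_mem_P huC i))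
  have hz_next : ∀ i, z ^ 3 ^ (i + 1) ∈ P C (i + 1) := fun i => pow_mem_P hzC _
  have hgK : ∀ i, ∀ s ∈ K i, ⁅g, s⁆ ∈ P C (i + 1) := by
    intro i s hs
    set φ' := QuotientGroup.mk' (P C (i + 1))
    refine (QuotientGroup.eq_one_iff _).mp ?_
    show φ' ⁅g, s⁆ = 1
    rw [map_commutatorElement, commutatorElement_eq_one_iff_commute]
    obtain ⟨d, hd, w, hw, rfl⟩ := mem_sup_of_normal_left.mp hs
    obtain ⟨k, rfl⟩ := mem_zpowers_iff.mp hw
    rw [map_mul, show φ' d = 1 from (QuotientGroup.eq_one_iff _).mpr hd, one_mul, map_zpow]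
    refine Commute.zpow_right ?_ k
    obtain ⟨γ, d', hd', e⟩ := hgu_i i
    rw [← commutatorElement_eq_one_iff_commute, ← map_commutatorElement]
    refine (QuotientGroup.eq_one_iff _).mpr ?_
    rw [show ⁅g, u ^ 3 ^ i⁆ = (z ^ 3 ^ (i + 1)) ^ α * (u ^ 3 ^ (i + 1)) ^ γ * (u ^ 3 ^ i * d' * (u ^ 3 ^ i)⁻¹) by
      rw [commutatorElement_def, e]; simp only [mul_assoc]]
    exact mul_mem (mul_mem (zpow_mem (pow_mem_P hzC _) α) (zpow_mem (pow_mem_P huC _) γ))
      ((inferInstance : (P C (i + 1)).Normal).conj_mem d' (P_mono C (by omega) hd') _)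
  have hKn : ∀ i, (K i).Normal := by
    intro i
    refine normalizer_eq_top_iff.mp (eq_top_iff.mpr fun t _ => ?_)
    obtain ⟨k, hk⟩ := hgk t
    rw [show t = t * (g ^ k)⁻¹ * g ^ k by group]
    refine mul_mem (mem_normalizer_of_conj_le fun s hs => ?_) (pow_mem (mem_normalizer_of_conj_le fun s hs => ?_) k)
    · set c := t * (g ^ k)⁻¹
      rw [show c * s * c⁻¹ = ⁅s, c⁆⁻¹ * s by rw [commutatorElement_def]; group]
      exact mul_mem (mem_sup_left (inv_mem (P_comm hL hn (hKle i hs) hk))) hs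
    · rw [show g * s * g⁻¹ = ⁅g, s⁆ * s by rw [commutatorElement_def]; group]
      exact mul_mem (mem_sup_left (hgK i s hs)) hs
  have hPz : ∀ i, P C i ≤ K i ⊔ zpowers (z ^ 3 ^ i) := fun i x hx => by
    obtain ⟨a', b', d, hd, rfl⟩ := hPrep i x hx
    exact mul_mem (mem_sup_right (zpow_mem (mem_zpowers _) a'))
      (mul_mem (mem_sup_left (mem_sup_right (zpow_mem (mem_zpowers _) b'))) (mem_sup_left (mem_sup_left hd)))
  set lcs := fun j => (⊤ : Subgroup G).lowerCentralSeries j with hlcs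
  haveI hlcsn : ∀ j, (lcs j).Normal := fun j => inferInstanceAs ((⊤ : Subgroup G).lowerCentralSeries j).Normal
  have hnext : ∀ j, ∀ l ∈ lcs j, ⁅g, l⁆ ∈ lcs (j + 1) := fun j l hl => by
    show _ ∈ (⊤ : Subgroup G).lowerCentralSeries (j + 1)
    rw [Subgroup.lowerCentralSeries_succ, ← commutatorElement_inv]
    exact inv_mem (commutator_mem_commutator hl (mem_top g))
  have hB : ∀ i, P C i ≤ lcs (2 * i) ⊔ K i → K i ≤ lcs (2 * i + 1) ⊔ P C (i + 1) := by
    intro i hA
    refine sup_le le_sup_right (zpowers_le.mpr ?_)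
    haveI := hKn i
    obtain ⟨l, hl, k, hk, e⟩ := mem_sup_of_normal_right.mp (hA (pow_mem_P hzC i))
    obtain ⟨d, hd, ed⟩ := hconjg i
    haveI : (lcs (2 * i + 1) ⊔ P C (i + 1)).Normal := inferInstance
    have h1 : ⁅g, z ^ 3 ^ i⁆ ∈ lcs (2 * i + 1) ⊔ P C (i + 1) := by
      rw [← e, show ⁅g, l * k⁆ = ⁅g, l⁆ * (l * ⁅g, k⁆ * l⁻¹) by simp only [commutatorElement_def]; group]
      exact mul_mem (mem_sup_left (hnext _ l hl))
        (mem_sup_right ((inferInstance : (P C (i + 1)).Normal).conj_mem _ (hgK i k hk) l))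
    have h2 : ⁅g, z ^ 3 ^ i⁆ = u ^ 3 ^ i * (z ^ 3 ^ i * d * (z ^ 3 ^ i)⁻¹) := by
      rw [commutatorElement_def, ed]; group
    have h3 : u ^ 3 ^ i = ⁅g, z ^ 3 ^ i⁆ * (z ^ 3 ^ i * d * (z ^ 3 ^ i)⁻¹)⁻¹ := by rw [h2, mul_inv_cancel_right]
    rw [h3]
    exact mul_mem h1 (inv_mem (mem_sup_right ((inferInstance : (P C (i + 1)).Normal).conj_mem d hd _)))
  have hA' : ∀ i, K i ≤ lcs (2 * i + 1) ⊔ P C (i + 1) → P C (i + 1) ≤ lcs (2 * i + 2) ⊔ K (i + 1) := by
    intro i hKi
    haveI := hKn (i + 1)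
    refine (hPz (i + 1)).trans (sup_le le_sup_right (zpowers_le.mpr ?_))
    obtain ⟨l, hl, k, hk, e⟩ := mem_sup_of_normal_right.mp (hKi (mem_sup_right (mem_zpowers _)))
    obtain ⟨γ, d, hd, ed⟩ := hgu_i i
    set N := lcs (2 * i + 2) ⊔ K (i + 1)
    haveI : N.Normal := inferInstance
    -- commutators with `P (i + 1)`
    have hgP : ⁅g, k⁆ ∈ N := by
      refine mem_sup_right ?_
      set φ' := QuotientGroup.mk' (K (i + 1))
      refine (QuotientGroup.eq_one_iff _).mp ?_
      show φ' ⁅g, k⁆ = 1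
      rw [map_commutatorElement, commutatorElement_eq_one_iff_commute]
      obtain ⟨k₁, hk₁, k₂, hk₂, rfl⟩ := mem_sup_of_normal_left.mp (hPz (i + 1) hk)
      obtain ⟨r, rfl⟩ := mem_zpowers_iff.mp hk₂
      rw [map_mul, show φ' k₁ = 1 from (QuotientGroup.eq_one_iff _).mpr hk₁, one_mul, map_zpow]
      refine Commute.zpow_right ?_ r
      obtain ⟨d', hd', ed'⟩ := hconjg (i + 1)
      rw [← commutatorElement_eq_one_iff_commute, ← map_commutatorElement]
      refine (QuotientGroup.eq_one_iff _).mpr ?_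
      rw [commutatorElement_def, ed', mul_assoc (u ^ 3 ^ (i + 1)), mul_assoc (u ^ 3 ^ (i + 1))]
      exact mul_mem (mem_sup_right (mem_zpowers _))
        (mem_sup_left ((inferInstance : (P C (i + 1 + 1)).Normal).conj_mem d' hd' _))
    have h1 : ⁅g, u ^ 3 ^ i⁆ ∈ N := by
      rw [← e, show ⁅g, l * k⁆ = ⁅g, l⁆ * (l * ⁅g, k⁆ * l⁻¹) by simp only [commutatorElement_def]; group]
      exact mul_mem (mem_sup_left (hnext _ l hl)) ((inferInstance : N.Normal).conj_mem _ hgP l)
    have hdN : u ^ 3 ^ i * d * (u ^ 3 ^ i)⁻¹ ∈ N :=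
      (inferInstance : N.Normal).conj_mem d (mem_sup_right (mem_sup_left hd)) _
    have hγN : (u ^ 3 ^ (i + 1)) ^ γ ∈ N := mem_sup_right (mem_sup_right (zpow_mem (mem_zpowers _) γ))
    have h2 : (z ^ 3 ^ (i + 1)) ^ α = ⁅g, u ^ 3 ^ i⁆ * (u ^ 3 ^ i * d * (u ^ 3 ^ i)⁻¹)⁻¹ * ((u ^ 3 ^ (i + 1)) ^ γ)⁻¹ := by
      rw [commutatorElement_def, ed]; group
    have h3 : (z ^ 3 ^ (i + 1)) ^ α ∈ N := h2 ▸ mul_mem (mul_mem h1 (inv_mem hdN)) (inv_mem hγN)
    have h4 : (z ^ 3 ^ (i + 1)) ^ ((3 : ℤ) * α') ∈ N := by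
      rw [zpow_mul, zpow_ofNat, ← pow_mul, ← pow_succ]
      exact zpow_mem (mem_sup_right (mem_sup_left (pow_mem_P hzC _))) α'
    have h5 := mul_mem h4 (inv_mem h3)
    rwa [← zpow_neg, ← zpow_add, show (3 : ℤ) * α' + -α = 1 by linarith, zpow_one] at h5
  have hboth : ∀ i, P C i ≤ lcs (2 * i) ⊔ K i := by
    intro i
    induction i with
    | zero =>
      intro x _
      exact mem_sup_left (show x ∈ (⊤ : Subgroup G).lowerCentralSeries 0 by
        rw [Subgroup.lowerCentralSeries_zero]; exact mem_top x)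
    | succ i ih => exact hA' i (hB i ih)
  have hlcs_anti : ∀ j k, j ≤ k → lcs k ≤ lcs j := fun j k h => (⊤ : Subgroup G).lowerCentralSeries_antitone h
  have hdown : ∀ k i, n ≤ i + k → P C i ≤ lcs (2 * i) := by
    intro k
    induction k with
    | zero => intro i hi; rw [P_eq_bot hn C (by omega)]; exact bot_le
    | succ k ih =>
      intro i hi
      have h1 : P C (i + 1) ≤ lcs (2 * i + 1) := (ih (i + 1) (by omega)).trans (hlcs_anti _ _ (by omega))
      have h2 : K i ≤ lcs (2 * i + 1) := (hB i (hboth i)).trans (sup_le le_rfl h1)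
      exact (hboth i).trans (sup_le le_rfl (h2.trans (hlcs_anti _ _ (by omega))))
  have hKdown : ∀ i, K i ≤ lcs (2 * i + 1) := fun i =>
    (hB i (hboth i)).trans (sup_le le_rfl ((hdown n (i + 1) (by omega)).trans (hlcs_anti _ _ (by omega))))
  -- the orders
  have hKcard : ∀ i, Nat.card (K i) ≤ 3 * Nat.card (P C (i + 1)) := fun i => by
    refine card_le_card_mul _ (by rw [normalizer_eq_top]; exact le_top) ?_
    rw [← pow_mul, ← pow_succ]; exact pow_mem_P huC _
  have hPcard : ∀ i, Nat.card (P C i) ≤ 3 * Nat.card (K i) := fun i => by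
    refine (card_le_of_le (hPz i)).trans (card_le_card_mul _ ?_ ?_)
    · haveI := hKn i; rw [normalizer_eq_top]; exact le_top
    · rw [← pow_mul, ← pow_succ]; exact mem_sup_left (pow_mem_P hzC _)
  have hlow : ∀ i, 2 * i ≤ n - 1 → 3 ^ (n - 1 - 2 * i) ≤ Nat.card (P C i) := by
    intro i
    induction i with
    | zero =>
      intro _
      have hCP0 : C ≤ P C 0 := fun s hs => by simpa using pow_mem_P (C := C) hs 0
      have h1 := card_le_of_le hCP0
      have h2 : 3 ^ n = 3 * 3 ^ (n - 1) := by rw [← pow_succ']; congr 1; omega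
      simp only [Nat.mul_zero, Nat.sub_zero]
      omega
    | succ i ih =>
      intro hi
      have h1 := ih (by omega)
      have h2 := hPcard i
      have h3 := hKcard i
      have h4 : 3 ^ (n - 1 - 2 * i) = 9 * 3 ^ (n - 1 - 2 * (i + 1)) := by
        rw [show n - 1 - 2 * i = (n - 1 - 2 * (i + 1)) + 2 by omega, pow_add]; ring
      omega
  intro hbot
  rcases Nat.even_or_odd' (n - 2) with ⟨i, hi | hi⟩
  · have h1 := hdown n i (by omega)
    have h2 : P C i = ⊥ := le_bot_iff.mp (h1.trans (by show lcs (2 * i) ≤ ⊥; rw [← hi]; exact hbot.le))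
    have h3 := hlow i (by omega)
    rw [h2, card_bot, show n - 1 - 2 * i = 1 by omega] at h3
    omega
  · have h1 := hKdown i
    have h2 : K i = ⊥ := le_bot_iff.mp (h1.trans (by show lcs (2 * i + 1) ≤ ⊥; rw [← hi]; exact hbot.le))
    have h3 := hlow i (by omega)
    have h4 := hPcard i
    rw [h2, card_bot] at h4
    rw [show n - 1 - 2 * i = 2 by omega] at h3
    omega

end Main

/-- A `3`-group of rank at most two is metacyclic, has a normal subgroup of order `27` and exponent `3`,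
or is of maximal class. -/
theorem three (hG : IsPGroup 3 G) {n : ℕ} (hn : Nat.card G = 3 ^ n) (hrk : PRankLE 3 2 G) : ThreeGoal G n := by
  classical
  haveI := hG.isNilpotent
  by_cases hcyc : IsCyclic G
  · left
    obtain ⟨a, ha⟩ := hcyc.exists_generator
    exact S0639.isMetacyclic_of_two (x := a) (y := a) (fun g _ => ha g)
      (eq_top_iff.mpr fun g _ => zpowers_le.mpr (inl_mem a a) (ha g))
  obtain ⟨E, hEn, hE, hEab, hEx⟩ := PGroup23.exists_normal_elementary_sq (by norm_num) hG hcyc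
  haveI := hEn
  have hEc : ∀ e ∈ E, ∀ f ∈ E, Commute e f := fun e he f hf =>
    congrArg Subtype.val (mul_comm' (⟨e, he⟩ : E) ⟨f, hf⟩)
  haveI : (centralizer (E : Set G)).Normal := inferInstance
  have hCE : ∀ a ∈ centralizer (E : Set G), a ^ 3 = 1 → a ∈ E := fun a ha h3 =>
    mem_of_rank hrk hE hEc hEx h3 fun e he => mem_centralizer_iff.mp ha e he
  have hmC : IsMetacyclic (centralizer (E : Set G)) := by
    refine metacyclic_of_central (p := 3) (by norm_num) _ _ rfl (hG.to_subgroup _) (fun x hx => ?_) ?_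
    · refine mem_center_iff.mpr fun y => Subtype.ext ?_
      exact (mem_centralizer_iff.mp y.2 (x : G) (hCE x x.2 (by rw [← SubgroupClass.coe_pow, hx, OneMemClass.coe_one]))).symm
    · intro A hA he
      rw [← card_map_of_injective (centralizer (E : Set G)).subtype_injective]
      exact hrk (A.map (centralizer (E : Set G)).subtype) inferInstance (by
        rintro _ ⟨a, ha, rfl⟩
        rw [← map_pow, he a ha, map_one])
  by_cases hCtop : centralizer (E : Set G) = ⊤
  · left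
    refine metacyclic_of_central (p := 3) (by norm_num) _ G rfl hG (fun x hx => mem_center_iff.mpr fun y => ?_) hrk
    exact (mem_centralizer_iff.mp (hCtop ▸ mem_top y : y ∈ centralizer (E : Set G)) x
      (hCE x (hCtop ▸ mem_top x) hx)).symm
  obtain ⟨g, -, hg⟩ := SetLike.exists_of_lt (lt_top_iff_ne_top.mpr hCtop)
  have hn3 : 3 ≤ n := by
    have h1 : E < ⊤ := lt_top_iff_ne_top.mpr fun e => hg (mem_centralizer_iff.mpr fun s hs =>
      (hEc s hs g (e ▸ mem_top g)).eq)
    have h2 := Basics.card_lt_of_lt h1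
    rw [hE, card_top, hn, Nat.pow_lt_pow_iff_right (by norm_num : 1 < 3)] at h2
    omega
  rcases Nat.lt_or_ge n 4 with hn4 | hn4
  · right; right
    refine ⟨by omega, fun hbot => ?_⟩
    rw [show n - 2 = 0 + 1 by omega, Subgroup.lowerCentralSeries_succ, Subgroup.lowerCentralSeries_zero] at hbot
    refine hg (mem_centralizer_iff.mpr fun s _ => ?_)
    have h := commutator_mem_commutator (mem_top g) (mem_top s) (H₁ := (⊤ : Subgroup G)) (H₂ := ⊤)
    rw [hbot, mem_bot, commutatorElement_eq_one_iff_commute] at h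
    exact h.symm.eq
  obtain ⟨a, b, hgen⟩ := gens_of_metacyclic hmC
  have hgenC : centralizer (E : Set G) ≤ closure {(a : G), (b : G)} := by
    intro s hs
    have h := mem_map_of_mem (centralizer (E : Set G)).subtype (hgen ▸ mem_top (⟨s, hs⟩ : centralizer (E : Set G)))
    rw [MonoidHom.map_closure, Set.image_pair] at h
    exact h
  have hL := powLaw_of_metacyclic hG _ hmC
  by_cases hA : ∀ s ∈ centralizer (E : Set G), ⁅g, s⁆ ∈ P (centralizer (E : Set G)) 1
  · exact caseA hG E hE hEx hEc hn _ rfl hL hCE _ _ a.2 b.2 hgenC g hg hA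
  · push_neg at hA
    obtain ⟨z, hz, hgz⟩ := hA
    exact caseB hG E hE hEx hEc hn _ rfl hL hCE _ _ a.2 b.2 hgenC g hg hz hgz hn4

end Cfsg.Agent.Blackburn23
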