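import Cfsg.Agent.Lib.Blackburn23.Families

/-!
# Powers in a metacyclic normal subgroup of a `3`-group
-/

set_option autoImplicit false
set_option linter.style.haveILetI false
set_option linter.unusedSectionVars false
set_option linter.unusedVariables false

namespace Cfsg.Agent.Blackburn23

open Subgroup Cfsg Cfsg.Agent
open scoped commutatorElement

universe u

instance fact3 : Fact (Nat.Prime 3) := ⟨Nat.prime_three⟩

variable {G : Type u} [Group G] [Finite G]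

/-- The subgroup generated by the `3 ^ i`-th powers of elements of `C`. -/
def P (C : Subgroup G) (i : ℕ) : Subgroup G := closure {x | ∃ a ∈ C, a ^ 3 ^ i = x}

instance P_normal (C : Subgroup G) [C.Normal] (i : ℕ) : (P C i).Normal := by
  refine ⟨fun x hx g => ?_⟩
  have h : P C i ≤ (P C i).comap (MulAut.conj g).toMonoidHom := (closure_le _).mpr (by
    rintro _ ⟨a, ha, rfl⟩
    show g * a ^ 3 ^ i * g⁻¹ ∈ P C i
    rw [← conj_pow]
    exact Subgroup.subset_closure ⟨_, (inferInstance : C.Normal).conj_mem a ha g, rfl⟩)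
  exact h hx

theorem pow_mem_P {C : Subgroup G} {a : G} (ha : a ∈ C) (i : ℕ) : a ^ 3 ^ i ∈ P C i :=
  Subgroup.subset_closure ⟨a, ha, rfl⟩

theorem P_le (C : Subgroup G) (i : ℕ) : P C i ≤ C := (closure_le _).mpr (by
  rintro _ ⟨a, ha, rfl⟩; exact pow_mem ha _)

theorem P_mono (C : Subgroup G) {i j : ℕ} (h : i ≤ j) : P C j ≤ P C i := (closure_le _).mpr (by
  rintro _ ⟨a, ha, rfl⟩
  obtain ⟨k, rfl⟩ := Nat.exists_eq_add_of_le h
  rw [pow_add, pow_mul']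
  exact pow_mem_P (pow_mem ha _) i)

theorem P_eq_bot {n : ℕ} (hn : Nat.card G = 3 ^ n) (C : Subgroup G) {j : ℕ} (h : n ≤ j) : P C j = ⊥ := by
  refine (eq_bot_iff_forall _).mpr fun x hx => ?_
  have h1 : P C j ≤ ⊥ := (closure_le _).mpr (by
    rintro _ ⟨a, -, rfl⟩
    exact mem_bot.mpr (orderOf_dvd_iff_pow_eq_one.mp ((_root_.orderOf_dvd_natCard a).trans (hn ▸ pow_dvd_pow 3 h))))
  exact mem_bot.mp (h1 hx)

/-- The power laws of a metacyclic group, stated for a subgroup. -/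
structure PowLaw (C : Subgroup G) : Prop where
  mul_pow : ∀ a ∈ C, ∀ b ∈ C, ∀ i k : ℕ, (k = 0 ∨ (∃ a' ∈ C, a = a' ^ 3 ^ k) ∨ ∃ b' ∈ C, b = b' ^ 3 ^ k) →
    (a ^ 3 ^ i * b ^ 3 ^ i)⁻¹ * (a * b) ^ 3 ^ i ∈ P C (i + k + 1)
  comm : ∀ a ∈ C, ∀ b ∈ C, ∀ i : ℕ, ⁅a ^ 3 ^ i, b⁆ ∈ P C (i + 1)
  inj : ∀ a ∈ C, ∀ b ∈ C, a ^ 3 = b ^ 3 → (a⁻¹ * b) ^ 3 = 1

/-- Injectivity of cubing up to elements of order `3`. -/
theorem inj_three {K : Type u} [Group K] [Finite K] (hK : IsPGroup 3 K) {c : K}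
    (hD : _root_.commutator K = zpowers c) {a b : K} (hab : a ^ 3 = b ^ 3) : (a⁻¹ * b) ^ 3 = 1 := by
  set d := ⁅a, b⁆ with hd
  have hdc : d ∈ zpowers c := hD ▸ commutator_mem_commutator (mem_top a) (mem_top b)
  obtain ⟨j, hj⟩ := mem_zpowers_iff.mp hdc
  obtain ⟨k, hk⟩ := conj_c (p := 3) hK hD a
  have hr : ∀ e : ℤ, a * d ^ e * a⁻¹ = d ^ ((1 + 3 * k) * e) := fun e => by
    rw [← hj, ← conj_zpow, ← conj_zpow, hk]
    simp only [← zpow_mul]
    push_cast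
    ring_nf
  have hbc : a ^ 3 * b * (a ^ 3)⁻¹ = b := by
    rw [hab, (Commute.pow_self b 3).eq, mul_inv_cancel_right]
  have e1 : a * b * a⁻¹ = d * b := by rw [hd, commutatorElement_def]; group
  have h1 := hr 1
  rw [zpow_one, mul_one] at h1
  have e3 : a ^ 3 * b * (a ^ 3)⁻¹ = d ^ ((1 + 3 * k) * (1 + 3 * k)) * d ^ (1 + 3 * k) * d * b := by
    calc a ^ 3 * b * (a ^ 3)⁻¹ = a * (a * (a * b * a⁻¹) * a⁻¹) * a⁻¹ := by simp [pow_succ, mul_assoc]
      _ = a * (a * (d * b) * a⁻¹) * a⁻¹ := by rw [e1]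
      _ = a * ((a * d * a⁻¹) * (a * b * a⁻¹)) * a⁻¹ := by simp [mul_assoc]
      _ = a * (d ^ (1 + 3 * k) * (d * b)) * a⁻¹ := by rw [h1, e1]
      _ = (a * d ^ (1 + 3 * k) * a⁻¹) * (a * d * a⁻¹) * (a * b * a⁻¹) := by simp [mul_assoc]
      _ = _ := by rw [hr, h1, e1]; simp [mul_assoc]
  rw [hbc, eq_comm, mul_eq_right, ← zpow_add, ← zpow_add_one] at e3
  obtain ⟨e, he⟩ := IsPGroup.iff_orderOf.mp hK d
  obtain ⟨u, v, huv⟩ : IsCoprime (1 + 3 * k + 3 * k * k) ((3 : ℤ) ^ e) :=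
    IsCoprime.pow_right ⟨1, -(k + k * k), by ring⟩
  have hd1 : d ^ ((3 : ℤ) ^ e) = 1 := by
    rw [show (3 : ℤ) ^ e = ((3 ^ e : ℕ) : ℤ) by push_cast; rfl, zpow_natCast, ← he, pow_orderOf_eq_one]
  have hd3 : d ^ (3 : ℤ) = 1 := by
    have : (3 : ℤ) = ((1 + 3 * k) * (1 + 3 * k) + (1 + 3 * k) + 1) * u + (3 : ℤ) ^ e * (3 * v) := by
      linear_combination -3 * huv
    rw [this, zpow_add, zpow_mul, e3, one_zpow, one_mul, zpow_mul, hd1, one_zpow]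
  have hda : Commute d a := by
    refine (mul_inv_eq_iff_eq_mul.mp ?_).symm
    rw [h1, zpow_add, zpow_one, zpow_mul, hd3, one_zpow, mul_one]
  have hdb : Commute d b := by
    obtain ⟨k', hk'⟩ := conj_c (p := 3) hK hD b
    refine (mul_inv_eq_iff_eq_mul.mp ?_).symm
    rw [← hj, ← conj_zpow, hk', ← zpow_mul, mul_comm, zpow_mul, hj, zpow_add, zpow_one, zpow_mul]
    push_cast
    rw [hd3, one_zpow, mul_one]
  have e : ⁅b, a⁻¹⁆ = d := by
    rw [show ⁅b, a⁻¹⁆ = a⁻¹ * (d * a) by rw [hd, commutatorElement_def, commutatorElement_def]; group, hda.eq,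
      inv_mul_cancel_left]
  rw [mul_pow_p (p := 3) (by norm_num) (e ▸ hda.inv_right) (e ▸ hdb)
    (e ▸ (by rw [← zpow_natCast]; exact_mod_cast hd3)), inv_pow, hab, inv_mul_cancel]

theorem powLaw_of_metacyclic (hG : IsPGroup 3 G) (C : Subgroup G) (hm : IsMetacyclic C) : PowLaw C := by
  have hC : IsPGroup 3 C := hG.to_subgroup C
  obtain ⟨D⟩ := Metacyclic.nonempty_data hC hm
  obtain ⟨k, hk⟩ := D.dvd_r
  have hD : _root_.commutator C = zpowers ((D.a ^ k) ^ 3) := by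
    rw [D.commutator_eq, hk, ← zpow_natCast, ← zpow_mul, mul_comm]
  set h := D.a ^ k
  have mem : ∀ (e : ℕ) (x : C), x ∈ zpowers ((h ^ 3) ^ ((3 : ℤ) ^ e)) → (x : G) ∈ P C (e + 1) := by
    intro e x hx
    obtain ⟨t, rfl⟩ := mem_zpowers_iff.mp hx
    have e1 : ((h ^ 3) ^ ((3 : ℤ) ^ e)) = h ^ 3 ^ (e + 1) := by
      rw [show (3 : ℤ) ^ e = ((3 ^ e : ℕ) : ℤ) by push_cast; rfl, zpow_natCast, ← pow_mul, ← pow_succ']
    rw [e1, SubgroupClass.coe_zpow, SubgroupClass.coe_pow]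
    exact zpow_mem (pow_mem_P h.2 _) t
  have hm1 : ∀ a b : C, ⁅a, b⁆ ∈ zpowers ((h ^ 3) ^ (1 : ℤ)) := fun a b => by
    rw [zpow_one, ← hD]; exact commutator_mem_commutator (mem_top _) (mem_top _)
  have hm2 : ∀ (a b : C) (k : ℕ), ⁅a ^ 3 ^ k, b⁆ ∈ zpowers ((h ^ 3) ^ ((3 : ℤ) ^ k)) := fun a b k => by
    have := (key_pow (p := 3) (by norm_num) hC hD (hm1 a b) k).2
    simpa using this
  refine ⟨fun a ha b hb i k hk => ?_, fun a ha b hb i => ?_, fun a ha b hb hab => ?_⟩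
  · have hcomm : ⁅(⟨a, ha⟩ : C), ⟨b, hb⟩⁆ ∈ zpowers ((h ^ 3) ^ ((3 : ℤ) ^ k)) := by
      rcases hk with rfl | ⟨a', ha', e⟩ | ⟨b', hb', e⟩
      · simpa using hm1 ⟨a, ha⟩ ⟨b, hb⟩
      · rw [show (⟨a, ha⟩ : C) = ⟨a', ha'⟩ ^ 3 ^ k from Subtype.ext (by simpa using e)]
        exact hm2 _ _ k
      · rw [show (⟨b, hb⟩ : C) = ⟨b', hb'⟩ ^ 3 ^ k from Subtype.ext (by simpa using e), ← commutatorElement_inv]
        exact inv_mem (hm2 _ _ k)
    have h1 := (key_pow (p := 3) (by norm_num) hC hD hcomm i).1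
    rw [show (3 : ℤ) ^ k * ((3 : ℕ) : ℤ) ^ i = (3 : ℤ) ^ (i + k) by push_cast; ring] at h1
    exact mem _ _ h1
  · exact mem i _ (hm2 ⟨a, ha⟩ ⟨b, hb⟩ i)
  · have h1 := inj_three hC hD (a := (⟨a, ha⟩ : C)) (b := ⟨b, hb⟩) (Subtype.ext (by simpa using hab))
    exact congrArg Subtype.val h1

variable {C : Subgroup G} [C.Normal] (hL : PowLaw C) {n : ℕ} (hn : Nat.card G = 3 ^ n)

include hL in
theorem P_rep {j : ℕ} {x : G} (hx : x ∈ P C j) : ∃ a ∈ C, ∃ w ∈ P C (j + 1), x = a ^ 3 ^ j * w := by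
  induction hx using closure_induction with
  | mem x hx =>
    obtain ⟨a, ha, rfl⟩ := hx
    exact ⟨a, ha, 1, one_mem _, by simp⟩
  | one => exact ⟨1, one_mem _, 1, one_mem _, by simp⟩
  | mul x y _ _ ihx ihy =>
    obtain ⟨a, ha, v, hv, rfl⟩ := ihx
    obtain ⟨b, hb, w, hw, rfl⟩ := ihy
    have hd := hL.mul_pow a ha b hb j 0 (Or.inl rfl)
    refine ⟨a * b, mul_mem ha hb, ((a ^ 3 ^ j * b ^ 3 ^ j)⁻¹ * (a * b) ^ 3 ^ j)⁻¹ * ((b ^ 3 ^ j)⁻¹ * v * b ^ 3 ^ j) * w, ?_, by group⟩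
    exact mul_mem (mul_mem (inv_mem hd) ((inferInstance : (P C (j + 1)).Normal).conj_mem' v hv _)) hw
  | inv x _ ih =>
    obtain ⟨a, ha, w, hw, rfl⟩ := ih
    refine ⟨a⁻¹, inv_mem ha, a ^ 3 ^ j * w⁻¹ * (a ^ 3 ^ j)⁻¹, ?_, by rw [inv_pow]; group⟩
    exact (inferInstance : (P C (j + 1)).Normal).conj_mem _ (inv_mem hw) _

include hL hn in
/-- Every element of `P C j` is a `3 ^ j`-th power. -/
theorem P_exact {j : ℕ} {x : G} (hx : x ∈ P C j) : ∃ a ∈ C, x = a ^ 3 ^ j := by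
  suffices hQ : ∀ k, ∃ a ∈ C, ∃ w ∈ P C (j + 1 + k), x = a ^ 3 ^ j * w by
    obtain ⟨a, ha, w, hw, e⟩ := hQ n
    rw [P_eq_bot hn C (by omega), mem_bot] at hw
    exact ⟨a, ha, by rw [e, hw, mul_one]⟩
  intro k
  induction k with
  | zero => exact P_rep hL hx
  | succ k ih =>
    obtain ⟨a, ha, w, hw, rfl⟩ := ih
    obtain ⟨b, hb, w', hw', rfl⟩ := P_rep hL hw
    have hbk : b ^ 3 ^ (1 + k) ∈ C := pow_mem hb _
    have hd := hL.mul_pow a ha _ hbk j (1 + k) (Or.inr (Or.inr ⟨b, hb, rfl⟩))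
    refine ⟨a * b ^ 3 ^ (1 + k), mul_mem ha hbk, ((a ^ 3 ^ j * (b ^ 3 ^ (1 + k)) ^ 3 ^ j)⁻¹ * (a * b ^ 3 ^ (1 + k)) ^ 3 ^ j)⁻¹ * w', ?_, ?_⟩
    · refine mul_mem (inv_mem ?_) hw'
      rw [show j + 1 + (k + 1) = j + (1 + k) + 1 by omega]
      exact hd
    · rw [show b ^ 3 ^ (j + 1 + k) = (b ^ 3 ^ (1 + k)) ^ 3 ^ j by rw [← pow_mul, ← pow_add]; ring_nf]
      group

include hL hn in
theorem P_comm {j : ℕ} {x b : G} (hx : x ∈ P C j) (hb : b ∈ C) : ⁅x, b⁆ ∈ P C (j + 1) := by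
  obtain ⟨a, ha, rfl⟩ := P_exact hL hn hx
  exact hL.comm a ha b hb j

include hL hn in
/-- An element acting trivially modulo cubes lowers the power filtration. -/
theorem P_lower {t : G} (ht : ∀ a ∈ C, ⁅t, a⁆ ∈ P C 1) {j : ℕ} {a : G} (ha : a ∈ P C j) :
    ⁅t, a⁆ ∈ P C (j + 1) := by
  obtain ⟨b, hb, rfl⟩ := P_exact hL hn ha
  set u := ⁅t, b⁆ with hu
  obtain ⟨u', hu', e⟩ := P_exact hL hn (ht b hb)
  have huC : u ∈ C := P_le C 1 (ht b hb)
  have hd := hL.mul_pow u huC b hb j 1 (Or.inr (Or.inl ⟨u', hu', e⟩))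
  have e1 : t * b ^ 3 ^ j * t⁻¹ = (u * b) ^ 3 ^ j := by
    rw [← conj_pow, hu, commutatorElement_def]; group
  have e2 : ⁅t, b ^ 3 ^ j⁆ = u ^ 3 ^ j * (b ^ 3 ^ j * ((u ^ 3 ^ j * b ^ 3 ^ j)⁻¹ * (u * b) ^ 3 ^ j) * (b ^ 3 ^ j)⁻¹) := by
    rw [commutatorElement_def, e1]; group
  rw [e2]
  refine mul_mem ?_ (P_mono C (by omega) ((inferInstance : (P C (j + 1 + 1)).Normal).conj_mem _ hd _))
  rw [show u ^ 3 ^ j = u' ^ 3 ^ (j + 1) by rw [hu, e, ← pow_mul, ← pow_add, add_comm]]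
  exact pow_mem_P hu' _

omit [Finite G] in
theorem card_le_card_mul {N : Subgroup G} (t : G) [Finite G] (hN : zpowers t ≤ normalizer (N : Set G)) (ht : t ^ 3 ∈ N) :
    Nat.card (N ⊔ zpowers t : Subgroup G) ≤ 3 * Nat.card N := by
  have h := Basics.card_mul_card_eq_card_sup_mul_card_inf (N := N) (H := zpowers t) hN
  have hle : zpowers (t ^ 3) ≤ N ⊓ zpowers t :=
    le_inf (zpowers_le.mpr ht) (zpowers_le.mpr (pow_mem (mem_zpowers t) 3))
  have h2 : Nat.card (zpowers t) ≤ 3 * Nat.card (N ⊓ zpowers t : Subgroup G) := by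
    refine le_trans ?_ (Nat.mul_le_mul_left 3 (card_le_of_le hle))
    rw [Nat.card_zpowers, Nat.card_zpowers, orderOf_pow' t (by norm_num : (3 : ℕ) ≠ 0)]
    rcases (Nat.dvd_prime Nat.prime_three).mp (Nat.gcd_dvd_right (orderOf t) 3) with e | e <;> rw [e]
    · rw [Nat.div_one]; omega
    · rw [Nat.mul_div_cancel' (e ▸ Nat.gcd_dvd_left (orderOf t) 3)]
  have hpos : 0 < Nat.card (N ⊓ zpowers t : Subgroup G) := Nat.card_pos
  nlinarith

omit [Finite G] in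
/-- A subgroup mapped into itself by conjugation with `t` is normalized by `t`. -/
theorem mem_normalizer_of_conj_le [Finite G] {S : Subgroup G} {t : G} (h : ∀ s ∈ S, t * s * t⁻¹ ∈ S) :
    t ∈ normalizer (S : Set G) := by
  have hle : S.map (MulAut.conj t).toMonoidHom ≤ S := by rintro _ ⟨s, hs, rfl⟩; exact h s hs
  have he := eq_of_le_of_card_ge hle (card_map_of_injective (MulAut.conj t).injective).ge
  refine mem_normalizer_iff.mpr fun s => ⟨h s, fun hs => ?_⟩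
  have hs : t * s * t⁻¹ ∈ S.map (MulAut.conj t).toMonoidHom := he.symm ▸ hs
  obtain ⟨s', hs', e⟩ := hs
  have : s' = s := mul_left_cancel (mul_right_cancel (e : t * s' * t⁻¹ = t * s * t⁻¹))
  exact this ▸ hs'

omit [Finite G] in
theorem comm_mod_of_closure {π : Type*} [Group π] (f : G →* π) {S : Set G} (hS : closure S = ⊤)
    (h : ∀ a ∈ S, ∀ b ∈ S, Commute (f a) (f b)) (x y : G) : Commute (f x) (f y) := by
  have key : ∀ x, ∀ s ∈ S, Commute (f x) (f s) := by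
    intro x s hs
    have : closure S ≤ (centralizer {f s}).comap f := (closure_le _).mpr fun t ht =>
      mem_centralizer_singleton_iff.mpr (h t ht s hs)
    exact mem_centralizer_singleton_iff.mp (this (hS ▸ mem_top x))
  have : closure S ≤ (centralizer {f x}).comap f := (closure_le _).mpr fun s hs =>
    mem_centralizer_singleton_iff.mpr (key x s hs).symm
  exact (mem_centralizer_singleton_iff.mp (this (hS ▸ mem_top y))).symm

end Cfsg.Agent.Blackburn23
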